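import Cfsg.Agent.Lib.SpA.Basic
import Cfsg.Agent.Lib.Chev.CTA2

/-! Generators of coordinate subgroups; subgroups on which a homomorphism is injective. -/

set_option autoImplicit false

namespace Cfsg.Lib.SpA

open Subgroup Matrix Cfsg.Lib.Symp Cfsg.Lib.Chev Cfsg.Lib.Root RootSys Sum

variable {F : Type*} [Field F] {l : Type} [Fintype l] [DecidableEq l]

theorem bvC_eq {n : ℕ} (a : Fin (2 * n)) : bvC F a = bv F (idx n a) := rfl

theorem xSp_long {n : ℕ} {r : Rt (2 * n) true} (h : r.1.1 = r.1.2) (t : F) :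
    xSp F r t = sgp (bvC F r.1.1) 0 (t * sgC r.1.1) := sp_ext fun v => by
  rw [sgp_mulVec (map_zero _)]
  simp only [xSp, xG_C_mulVec, if_pos h, map_zero, smul_zero, add_zero, zero_add, smul_smul]

theorem xSp_short {n : ℕ} {r : Rt (2 * n) true} (h : r.1.1 ≠ r.1.2) (t : F) :
    xSp F r t = sgp (bvC F r.1.1) ((t * sgC r.1.1) • bvC F r.1.2) 0 := sp_ext fun v => by
  rw [sgp_mulVec (by rw [map_smul, bil_bvC_bvC F r.ne_rev, smul_zero])]
  simp only [xSp, xG_C_mulVec, if_neg h, map_smul, smul_eq_mul]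
  module

theorem xSp_fix {n : ℕ} {r : Rt (2 * n) true} {a : Fin (2 * n)} (h1 : a ≠ r.1.1.rev)
    (h2 : a ≠ r.1.2.rev) (t : F) : (xSp F r t).1 *ᵥ bvC F a = bvC F a := by
  simp only [xSp, xG_C_mulVec, bil_bvC_bvC F h1, bil_bvC_bvC F h2]
  simp

theorem Fi.vec_eq {p : l ⊕ l → Prop} {g h : symplecticGroup l F} (hg : g ∈ Fi F p) (hh : h ∈ Fi F p)
    {v : l ⊕ l → F} (H : ∀ x, ¬ p x.swap → (g.1 *ᵥ v) x = (h.1 *ᵥ v) x) : g.1 *ᵥ v = h.1 *ᵥ v :=
  funext fun x => by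
    by_cases e : p x.swap
    · rw [Fi.apply hg e, Fi.apply hh e]
    · exact H x e

theorem Sa_le {a : l} {N : Subgroup (symplecticGroup l F)} (h1 : ∀ c, sgp (bv F (inl a)) 0 c ∈ N)
    (h2 : ∀ c, sgp (bv F (inr a)) 0 c ∈ N) : Sa F a ≤ N := fun g hg => by
  have hκ : Function.Injective fun _ : Fin 1 => a := fun _ _ _ => Subsingleton.elim _ _
  obtain ⟨A, -, rfl⟩ := exists_emb hκ (fun x hx => ⟨fun e => hx ⟨inl 0, e.symm⟩,
    fun e => hx ⟨inr 0, e.symm⟩⟩) hg
  refine ((realSp F 1).top (N.comap (emb F hκ)) fun r t => ?_).ge (mem_top A)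
  have : r.1.1 = r.1.2 := by revert r; decide
  rw [mem_comap, show (realSp F 1).y r t = _ from xSp_long this t, emb_sgp hκ (map_zero _),
    mulVec_zero, bvC_eq, jm_bv]
  rcases idx 1 r.1.1 with x | x
  exacts [h1 _, h2 _]

theorem eq_sgp {b : l} {g : symplecticGroup l F} (hg : g ∈ Fi F (· ≠ inr b)) :
    ∃ c, g = sgp (bv F (inl b)) 0 c := by
  have h1 : ∀ c, sgp (bv F (inl b)) 0 c ∈ Fi F (· ≠ inr b) := fun c =>
    sgp_mem_Fi (map_zero _) c (fun x hx => by
      rw [bv_apply, if_neg fun e => hx (by rw [← swap_swap x, e]; rfl)]) fun _ _ => rfl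
  refine ⟨(g.1 *ᵥ bv F (inr b)) (inl b), sp_ext' fun x => ?_⟩
  by_cases e : x = inr b
  · subst e
    refine Fi.vec_eq hg (h1 _) fun x hx => ?_
    obtain rfl : x = inl b := by rw [← swap_swap x, not_not.1 hx]; rfl
    simp [sgp_mulVec, bil_inl, bv_apply]
  · rw [hg x e, h1 _ x e]

theorem sgp_mem_Ma (a b : l) (β α : F) : sgp (bv F (inl a)) (β • bv F (inl b)) α ∈ Ma F a b :=
  sgp_mem_Fi (by simp [bil_inl, bv_apply]) α (fun x hx => by
    rw [bv_apply, if_neg fun e => hx.1 (by rw [← swap_swap x, e]; rfl)]) fun x hx => by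
    rw [Pi.smul_apply, bv_apply, if_neg fun e => hx.2 (by rw [← swap_swap x, e]; rfl), smul_zero]

theorem Ma_le {a b : l} (hab : a ≠ b) {N : Subgroup (symplecticGroup l F)}
    (h1 : ∀ c, sgp (bv F (inl a)) 0 c ∈ N) (h2 : ∀ c, sgp (bv F (inl b)) 0 c ∈ N)
    (h3 : ∀ c : F, sgp (bv F (inl a)) (c • bv F (inl b)) 0 ∈ N) : Ma F a b ≤ N := fun g hg => by
  set v := g.1 *ᵥ bv F (inr a) with hv
  have h0 : ∀ c : F, bil l F (bv F (inl a)) (c • bv F (inl b)) = 0 := by simp [bil_inl, bv_apply]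
  have h4 := sgp_mem_Ma a b (v (inl b)) (v (inl a))
  have h5 : g.1 *ᵥ bv F (inr a) =
      (sgp (bv F (inl a)) (v (inl b) • bv F (inl b)) (v (inl a))).1 *ᵥ bv F (inr a) := by
    refine Fi.vec_eq hg h4 fun x hx => ?_
    rw [sgp_mulVec (h0 _), ← hv]
    rcases x with x | x
    · have : x = a ∨ x = b := by simpa [or_iff_not_imp_left] using hx
      rcases this with rfl | rfl <;> simp [bil_inl, bv_apply, hab, hab.symm]
    · simp at hx
  obtain ⟨c, hc⟩ := eq_sgp (g := (sgp (bv F (inl a)) (v (inl b) • bv F (inl b)) (v (inl a)))⁻¹ * g)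
    (b := b) fun x hx => by
      by_cases e : x = inr a
      · rw [e, mul_mulVec, h5, inv_mulVec_mulVec]
      · exact mul_mem (inv_mem h4) hg x ⟨e, hx⟩
  rw [inv_mul_eq_iff_eq_mul.1 hc]
  refine mul_mem ?_ (h2 _)
  convert mul_mem (h3 (v (inl b))) (h1 (v (inl a))) using 1
  rw [sgp_mul (h0 _) (map_zero _)]
  simp

theorem stab_le : Fi F (· = inl (0 : Fin 2)) ≤ Ma F 0 1 ⊔ Sa F 1 := fun g hg => by
  set v := g.1 *ᵥ bv F (inl 1) with hv
  have h0 : v (inr 0) = 0 := by rw [hv, Fi.apply hg rfl]; simp [bv_apply]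
  obtain ⟨s, hs, e1⟩ := exists_Sa (a := (1 : Fin 2)) (u := bv F (inr 1))
    (v := v - v (inl 0) • bv F (inl 0)) (fun x _ h => by rw [bv_apply, if_neg h]) (fun x h h' => by
      rcases x with x | x <;> fin_cases x <;> simp_all [bv_apply]) (bv_ne_zero _) fun e => by
      have h1 : g.1 *ᵥ bv F (inl 1) = g.1 *ᵥ (v (inl 0) • bv F (inl 0)) := by
        rw [mulVec_smul, hg _ rfl, ← sub_eq_zero.1 e]
      have h2 := congrArg ((g⁻¹).1 *ᵥ ·) h1
      simp only [inv_mulVec_mulVec] at h2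
      simpa [bv_apply] using congrFun h2 (inl 1)
  obtain ⟨n, hn, e2⟩ := exists_w (F := F) (1 : Fin 2)
  have hm := sgp_mem_Ma (0 : Fin 2) 1 (v (inl 0)) 0
  set m := sgp (bv F (inl (0 : Fin 2))) (v (inl 0) • bv F (inl 1)) 0 with hm'
  have e3 : (s * m * n).1 *ᵥ bv F (inl 1) = v := by
    rw [mul_mulVec, mul_mulVec, e2, hm', sgp_mulVec (by simp [bil_inl, bv_apply])]
    simp [bil_inl, bv_apply, mulVec_add, mulVec_smul, e1, hs (inl 0) (by simp)]
  have e4 : (s * m * n).1 *ᵥ bv F (inl 0) = bv F (inl 0) := by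
    rw [mul_mulVec, mul_mulVec, hn _ (by simp), hm _ (by simp), hs _ (by simp)]
  rw [← mul_inv_cancel_left (s * m * n) g]
  refine mul_mem (mul_mem (mul_mem (mem_sup_right hs) (mem_sup_left hm)) (mem_sup_right hn))
    (mem_sup_left fun x hx => ?_)
  rw [mul_mulVec]
  rcases x with x | x <;> fin_cases x
  · simp only [Fin.zero_eta]
    rw [hg _ rfl, ← e4, inv_mulVec_mulVec, e4]
  · simp only [Fin.mk_one]
    rw [← hv, ← e3, inv_mulVec_mulVec]
  all_goals simp at hx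

variable {E G : Type*} [Group E] [Group G] {π : E →* G} {K : Subgroup E}

/-- `π` is injective on `K`. -/
def Good (π : E →* G) (K : Subgroup E) : Prop := ∀ x ∈ K, π x = 1 → x = 1

theorem Good.eq (h : Good π K) {x y : E} (hx : x ∈ K) (hy : y ∈ K) (e : π x = π y) : x = y :=
  inv_mul_eq_one.1 (h _ (mul_mem (inv_mem hx) hy) (by simp [e]))

theorem Good.mono {K' : Subgroup E} (h : Good π K) (h' : K' ≤ K) : Good π K' :=
  fun x hx => h x (h' hx)

theorem Good.cj (h : Good π K) (g : E) : Good π (cj g K) := by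
  rintro _ ⟨x, hx, rfl⟩ e
  rw [h x hx (by simpa [mul_inv_eq_one] using e), map_one]

theorem Good.commute (h : Good π K) {x y : E} (hx : x ∈ K) (hy : y ∈ K)
    (e : Commute (π x) (π y)) : Commute x y :=
  h.eq (mul_mem hx hy) (mul_mem hy hx) (by simpa using e.eq)

theorem good_range {A : Type*} [Group A] {ψ : A →* E} (h : Function.Injective (π.comp ψ)) :
    Good π ψ.range := by
  rintro _ ⟨x, rfl⟩ e
  rw [(injective_iff_map_eq_one _).1 h x e, map_one]

theorem Good.rk1 (h : Good π K) {x y : F → G} (S : Rk1 x y) {p m : F → E} (hp : ∀ t, p t ∈ K)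
    (hm : ∀ t, m t ∈ K) (ep : ∀ t, π (p t) = x t) (em : ∀ t, π (m t) = y t) : Rk1 p m := by
  have hW : ∀ t, stW p m t ∈ K := fun t => mul_mem (mul_mem (hp _) (hm _)) (hp _)
  have hH : ∀ t, stH p m t ∈ K := fun t => mul_mem (hW _) (inv_mem (hW _))
  have eH : ∀ t, π (stH p m t) = stH x y t := fun t => by simp [stH, stW, ep, em]
  refine ⟨⟨fun s t => h.eq (hp _) (mul_mem (hp _) (hp _)) (by simp [ep, S.x_add]),
    fun s t => h.eq (hm _) (mul_mem (hm _) (hm _)) (by simp [em, S.y_add]), fun t ht u =>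
    h.eq (mul_mem (hW t) (hp _)) (mul_mem (hm _) (hW t)) ?_⟩, fun s t =>
    h.eq (hH _) (mul_mem (hH _) (hH _)) (by rw [map_mul, eH, eH, eH, S.hh])⟩
  simpa only [map_mul, ep, em] using S.rel t ht u

variable {ι Φ : Type} [Fintype ι] [DecidableEq ι] {R : RootSys ι Φ} {T : ChevTab R}

theorem Good.comm (h : Good π K) {x : Φ → F → G} (hx : T.StrongComm x) {y : Φ → F → E} {r s : Φ}
    (h1 : s ≠ r) (h2 : s ≠ R.neg r)
    (hy : ∀ k, k = r ∨ k = s ∨ R.Between r s k → ∀ t, y k t ∈ K ∧ π (y k t) = x k t) (t u : F) :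
    y s u * y r t = y r t * y s u * T.commProd y r s t u := by
  have h3 := hy r (.inl rfl)
  have h4 := hy s (.inr (.inl rfl))
  have h5 := fun c (hc : c ∈ T.terms r s) => hy c.1 (.inr (.inr (T.between_of_mem_terms hc)))
  refine h.eq (mul_mem (h4 _).1 (h3 _).1) (mul_mem (mul_mem (h3 _).1 (h4 _).1)
    (list_prod_mem fun z hz => ?_)) ?_
  · obtain ⟨c, hc, rfl⟩ := List.mem_map.1 hz
    exact (h5 c hc _).1
  rw [map_mul, map_mul, map_mul, (h3 _).2, (h4 _).2, hx r s h1 h2, T.map_commProd]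
  exact congrArg (_ * List.prod ·) (List.map_congr_left fun c hc => (h5 c hc _).2.symm)

theorem Good.loc (h : Good π K) (C : ChevSys R F G) (hT : T.StrongComm C.x) {J : Set ι}
    {p m : ι → F → E} (hp : ∀ k ∈ J, ∀ t, p k t ∈ K ∧ π (p k t) = C.x (R.simple k) t)
    (hm : ∀ k ∈ J, ∀ t, m k t ∈ K ∧ π (m k t) = C.x (R.neg (R.simple k)) t) :
    ∃ y, T.Loc p m J y := by
  have h1 := C.XS_inJ_le (J := J) (K := K.map π) (fun k hk t => ⟨_, hp k hk t⟩)
    fun k hk t => ⟨_, hm k hk t⟩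
  have h2 : ∀ r t, ∃ e, R.InJ J r → e ∈ K ∧ π e = C.x r t := fun r t => by
    by_cases e : R.InJ J r
    · exact (h1 (C.x_mem e t)).imp fun _ h _ => h
    · exact ⟨1, fun h => (e h).elim⟩
  choose y hy using h2
  refine ⟨y, fun r hr t u => h.eq (hy _ _ hr).1 (mul_mem (hy _ _ hr).1 (hy _ _ hr).1) ?_,
    fun r s hr hs h3 h4 => h.comm hT h3 h4 fun k hk t => hy _ _ ?_, fun k hk => funext fun t => ?_,
    fun k hk => funext fun t => ?_⟩
  · rw [map_mul, (hy _ _ hr).2, (hy _ _ hr).2, (hy _ _ hr).2, C.x_add]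
  · rcases hk with rfl | rfl | hk
    exacts [hr, hs, isClosed_inJ _ hr _ hs _ hk]
  · have := hy _ t (inJ_simple_iff.2 hk)
    exact h.eq this.1 (hp k hk t).1 (this.2.trans (hp k hk t).2.symm)
  · have := hy _ t (inJ_simple_iff.2 hk).neg
    exact h.eq this.1 (hm k hk t).1 (this.2.trans (hm k hk t).2.symm)

theorem nonneg_of_between {κ : Type} [Fintype κ] (D : EucData ι Φ κ) {r s k : Φ}
    (h : D.rootSys.Between r s k) {c : ℤ} {a : κ} (hr : 0 ≤ c * D.v r a) (hs : 0 ≤ c * D.v s a) :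
    0 ≤ c * D.v k a := by
  have := h.le (f := (AddMonoidHom.mulLeft c).comp ((Pi.evalAddMonoidHom _ a).comp D.vec))
  simp only [AddMonoidHom.comp_apply, show ∀ r, D.vec (D.rootSys.α r) = D.v r from D.vec_α,
    Pi.evalAddMonoidHom_apply, AddMonoidHom.coe_mulLeft] at this
  linarith [this hr hs]

end Cfsg.Lib.SpA
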