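import Cfsg.Agent.Lib.SpA.Gen

/-! The amalgam of two vector stabilizers and a plane stabilizer in `Sp₄`. -/

set_option autoImplicit false

namespace Cfsg.Lib.SpA

open Subgroup Matrix Cfsg.Lib.Symp Cfsg.Lib.Chev Cfsg.Lib.Root RootSys Sum

variable {F : Type*} [Field F] {E G : Type*} [Group E] [Group G] {π : E →* G}

theorem H_le_long {n : ℕ} (C : ChevSys (rootC n) F G) : C.H ≤ C.XS {r | r.1.1 = r.1.2} := by
  have h1 : ∀ r : Rt (2 * n) true, r.1.1 = r.1.2 → ∀ t, C.h r t ∈ C.XS {r | r.1.1 = r.1.2} :=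
    fun r h t => C.h_mem (C.x_mem h) (C.x_mem (congrArg Fin.rev h.symm :)) t
  refine PreSys.H_le_iff.2 fun r t => ?_
  by_cases h : r.1.1 = r.1.2
  · exact h1 r h t
  have h2 : (rootC n).pair (.long r.1.1) r = 1 := by
    rw [pair_C, Rt.P_long, dl_self (ne_rev_of_even _), dl_of_ne h r.2.2, add_zero]
  have h3 := (C.acts_h (.long r.1.1) t).conj_n r 1
  rw [h2, zpow_one, mul_one, Equiv.Perm.one_apply] at h3
  rw [C.h_def, ← h3, mul_assoc, mul_assoc, ← mul_assoc (C.n r 1)]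
  refine mul_mem (h1 _ rfl t) ((C.acts_n_one r).conj_mem (fun k hk => ?_) (inv_mem (h1 _ rfl t)))
  have := ln_refl (R := rootC n) r k
  simp only [EucData.rootSys, eucC, if_pos (show k.1.1 = k.1.2 from hk)] at this
  by_contra e
  exact absurd ((if_neg e).symm.trans this) (by decide)

/-- The plane of a basis vector. -/
def pl {l : Type} : l ⊕ l → l := Sum.elim id id

/-- The root elements for `r` fix the basis vector `a`. -/
abbrev Av (r : Rt (2 * 2) true) (a : Fin (2 * 2)) : Prop := a ≠ r.1.1.rev ∧ a ≠ r.1.2.rev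

set_option synthInstance.maxSize 2048 in
theorem av_cases : ∀ r : Rt (2 * 2) true, ∃ a b, Av r a ∧ Av r b ∧
    (pl (idx 2 a)).rev = pl (idx 2 b) ∧ ((∀ c, Av r c → c = a ∨ c = b) ∧ r.1.1 ≠ r.1.2 ∨ Av r b.rev ∧
      (∀ c, Av r c → c = a ∨ pl (idx 2 c) = pl (idx 2 b)) ∧
      ∀ x, (x ≠ inl (pl (idx 2 a)) ∧ x ≠ inr (pl (idx 2 a))) → x = idx 2 b ∨ x = idx 2 b.rev) := by
  decide

theorem av_pair : ∀ r s : Rt (2 * 2) true, s ≠ r.neg → ∃ a, Av r a ∧ Av s a := by decide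

theorem av_iff : ∀ (r : Rt (2 * 2) true) a, Av r a ↔ 0 ≤ 1 * r.v a := by
  simp only [Rt.v, Pi.add_apply, eps_apply, dl_def]
  decide

theorem exists_c2 {ι : symplecticGroup (Fin 2) F →* G} (S : Fin 2 → Subgroup E) (M : Subgroup E)
    (hS : ∀ i, (S i).map π = (Sa F i).map ι) (hM : M.map π = (Ma F 0 1).map ι)
    (g1 : Good π (S 0 ⊔ S 1)) (g2 : ∀ i, Good π (M ⊔ S i)) :
    ∃ ψ : symplecticGroup (Fin 2) F →* E, π.comp ψ = ι ∧ ψ.range = S 0 ⊔ S 1 ⊔ M := by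
  have hS' : ∀ i, ∀ g ∈ Sa F i, ∃ e ∈ S i, π e = ι g := fun i g hg => (hS i).ge ⟨g, hg, rfl⟩
  have hle : ∀ i, S i ≤ S 0 ⊔ S 1 := Fin.forall_fin_two.2 ⟨le_sup_left, le_sup_right⟩
  have hc : ∀ i, ∀ x ∈ S i, ∀ y ∈ S i.rev, Commute x y := fun i x hx y hy => by
    obtain ⟨a, ha, e⟩ := (hS i).le ⟨x, hx, rfl⟩
    obtain ⟨b, hb, e'⟩ := (hS _).le ⟨y, hy, rfl⟩
    refine g1.commute (hle _ hx) (hle _ hy) ?_
    rw [← e, ← e']
    exact (commute_Fi (by clear * -; revert i; decide) ha hb).map ι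
  have h0 : ∀ x : Fin 2 ⊕ Fin 2, ∃ ν ∈ Sa F (pl x), ν.1 *ᵥ bv F (inl (pl x)) = bv F x ∧
      ∃ u ∈ S (pl x), π u = ι ν ∧ (x = inl 0 → u = 1) := by
    rintro (x | x)
    · exact ⟨1, one_mem _, one_mulVec _, 1, one_mem _, by simp, fun _ => rfl⟩
    · obtain ⟨ν, h1, h2⟩ := exists_w (F := F) x
      obtain ⟨u, h3, h4⟩ := hS' _ _ h1
      exact ⟨ν, h1, h2, u, h3, h4, by simp⟩
  choose ν hν eν u hu eu hu0 using h0
  let K := fun x => cj (u x) (M ⊔ S (pl x).rev)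
  have gK : ∀ x, Good π (K x) := fun x => (g2 _).cj _
  have hK : ∀ x, S (pl x).rev ≤ K x := fun x s hs =>
    ⟨s, mem_sup_right hs, by simp [(hc _ _ (hu x) _ hs).eq]⟩
  have hKL : ∀ x, K x ≤ S 0 ⊔ S 1 ⊔ M := by
    rintro x _ ⟨s, hs, rfl⟩
    have := mem_sup_left (T := M) (hle _ (hu x))
    exact mul_mem (mul_mem this (sup_le le_sup_right ((hle _).trans le_sup_left) hs)) (inv_mem this)
  have h2 : ∀ x y, (pl x).rev = pl y → ∀ g : symplecticGroup (Fin 2) F, g.1 *ᵥ bv F x = bv F x →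
      g.1 *ᵥ bv F y = bv F y → ∃ e, e ∈ K x ∧ e ∈ K y ∧ π e = ι g := fun x y h g e1 e2 => by
    have h' : (pl y).rev = pl x := by rw [← h, Fin.rev_rev]
    have a1 : (ν x * ν y).1 *ᵥ bv F (inl (pl x)) = bv F x := by
      rw [mul_mulVec, hν y _ (by rw [← h]; generalize pl x = i; revert i; decide), eν]
    have a2 : (ν x * ν y).1 *ᵥ bv F (inl (pl y)) = bv F y := by
      rw [mul_mulVec, eν, hν x _ (by rw [← h']; clear * -; revert y; decide)]
    obtain ⟨e, he, e3⟩ := hM.ge ⟨(ν x * ν y)⁻¹ * g * (ν x * ν y), fun z hz => by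
      obtain rfl | rfl : z = inl (pl x) ∨ z = inl (pl y) := by
        rw [← h]; generalize pl x = i; revert z i; decide
      · rw [mul_mulVec, mul_mulVec, a1, e1, ← a1, inv_mulVec_mulVec]
      · rw [mul_mulVec, mul_mulVec, a2, e2, ← a2, inv_mulVec_mulVec], rfl⟩
    have a3 : ∀ x y, (pl x).rev = pl y → u x * u y * e * (u x * u y)⁻¹ ∈ K x := fun x y h =>
      ⟨u y * e * (u y)⁻¹, mul_mem (mul_mem (mem_sup_right (h ▸ hu y)) (mem_sup_left he))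
        (inv_mem (mem_sup_right (h ▸ hu y))), by simp [mul_assoc]⟩
    refine ⟨_, a3 x y h, (hc _ _ (hu x) _ (h ▸ hu y)).eq ▸ a3 y x h', ?_⟩
    simp [e3, eu, mul_assoc]
  have h3 : ∀ r t, ∃ e, π e = ι (xSp F r t) ∧ (∀ a, Av r a → e ∈ K (idx 2 a)) ∧
      (r.1.1 = r.1.2 → e ∈ S 0 ⊔ S 1) := fun r t => by
    obtain ⟨a, b, ha, hb, h, h'⟩ := av_cases r
    obtain ⟨e, e1, e2, e3⟩ := h2 _ _ h _ (xSp_fix ha.1 ha.2 t) (xSp_fix hb.1 hb.2 t)
    rcases h' with ⟨h4, h5⟩ | ⟨h4, h5, h6⟩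
    · exact ⟨e, e3, fun c hc => by rcases h4 c hc with rfl | rfl <;> assumption,
        fun h => (h5 h).elim⟩
    obtain ⟨s, hs, e4⟩ := hS' (pl (idx 2 a)) (xSp F r t) fun x hx => by
      rcases h6 x hx with rfl | rfl
      exacts [xSp_fix hb.1 hb.2 t, xSp_fix h4.1 h4.2 t]
    have h7 : ∀ c, pl (idx 2 c) = pl (idx 2 b) → s ∈ K (idx 2 c) := fun c hc =>
      hK _ (by rwa [hc, ← h, Fin.rev_rev])
    obtain rfl := (gK _).eq e2 (h7 b rfl) (e3.trans e4.symm)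
    exact ⟨e, e3, fun c hc => (h5 c hc).elim (· ▸ e1) (h7 c), fun _ => hle _ hs⟩
  choose y hy1 hy2 hy3 using h3
  let X := realSp F 2
  have hadd : ∀ r t u, y r (t + u) = y r t * y r u := fun r t u => by
    obtain ⟨a, -, ha, -⟩ := av_cases r
    refine (gK _).eq (hy2 _ _ a ha) (mul_mem (hy2 _ _ a ha) (hy2 _ _ a ha)) ?_
    rw [map_mul, hy1, hy1, hy1, ← map_mul]
    exact congrArg ι (X.sys.x_add r t u)
  have hT : (repC (idx 2)).tab.StrongComm y := fun r s h1 h2 => by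
    obtain ⟨a, ha, hb⟩ := av_pair r s h2
    refine (gK (idx 2 a)).comm (X.strongComm.map ι) h1 h2 fun k hk t => ⟨hy2 _ _ _ ?_, hy1 _ _⟩
    rcases hk with rfl | rfl | hk
    exacts [ha, hb, (av_iff _ _).2 (nonneg_of_between (eucC 2) hk ((av_iff _ _).1 ha)
      ((av_iff _ _).1 hb))]
  have hR := noA1_of_conn (conn_C 2) le_rfl
  obtain ⟨ψ, hψ⟩ := X.faithful.exists_hom_of_prod X.strongComm hR hT hadd X.grp_eq
    fun g hg _ e => by
      have := (H_le_long _).trans (PreSys.XS_le (K := (S 0 ⊔ S 1).comap (MonoidHom.snd _ _) ⊓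
        (π.comp (MonoidHom.snd _ _)).eqLocus (ι.comp (MonoidHom.fst _ _))).2
        fun r hr t => by exact ⟨hy3 r t hr, hy1 r t⟩) hg
      exact g1 _ this.1 (this.2.trans (by simp [e]))
  replace hψ : ∀ r t, ψ (xSp F r t) = y r t := hψ
  have h4 : π.comp ψ = ι := MonoidHom.ext fun g => (X.top ((π.comp ψ).eqLocus ι) fun r t =>
    (congrArg π (hψ r t)).trans (hy1 r t)).ge (mem_top g)
  have h5 : ∀ (x : Fin 2 ⊕ Fin 2) a, a ≠ ((idx 2).symm x).rev → ∀ c,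
      sgp (bv F (idx 2 a)) 0 c ∈ (K x).comap ψ := fun x a h c => by
    have := hy2 (.long a) (c * sgC a) ((idx 2).symm x) (by
      simpa [Av, Rt.long, Fin.rev_eq_iff] using fun e => h (by rw [e, Fin.rev_rev]))
    rwa [← hψ, xSp_long rfl, mul_assoc, ← Int.cast_mul, show (Rt.long a).1.1 = a from rfl,
      sgC_mul_self, Int.cast_one, mul_one, Equiv.apply_symm_apply] at this
  have h6 : ∀ x, ∀ N ≤ (K x).comap ψ, ∀ A ≤ K x, A.map π = N.map ι → A ≤ ψ.range :=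
    fun x N hN A hA h a ha => by
      obtain ⟨g, hg, e⟩ := h.le ⟨a, ha, rfl⟩
      exact ⟨g, (gK x).eq (hN hg) (hA ha) ((DFunLike.congr_fun h4 g).trans e)⟩
  refine ⟨ψ, h4, le_antisymm ?_ (sup_le (sup_le ?_ ?_) ?_)⟩
  · rintro _ ⟨g, rfl⟩
    refine (X.top ((S 0 ⊔ S 1 ⊔ M).comap ψ) fun r t => ?_).ge (mem_top g)
    obtain ⟨a, -, ha, -⟩ := av_cases r
    exact hKL _ ((hψ r t).symm ▸ hy2 r t a ha)
  · exact h6 (inl 1) _ (Sa_le (h5 _ 0 (by decide)) (h5 _ 3 (by decide))) _ (hK (inl 1)) (hS 0)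
  · exact h6 (inl 0) _ (Sa_le (h5 _ 1 (by decide)) (h5 _ 2 (by decide))) _ (hK (inl 0)) (hS 1)
  · refine h6 (inl 0) _ (Ma_le (by decide) (h5 _ 0 (by decide)) (h5 _ 1 (by decide)) fun c => ?_) _
      (fun m hm => ⟨m, mem_sup_left hm, by simp [hu0 _ rfl]⟩) hM
    have := hy2 ⟨(0, 1), by decide⟩ c 0 (by decide)
    rw [← hψ, xSp_short (by decide)] at this
    simpa [sgC] using! this

end Cfsg.Lib.SpA
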