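import Cfsg.Agent.Lib.SpA.Heis

/-! The symplectic group is the universal completion of the amalgam of the `S_k` and `M_i`. -/

set_option autoImplicit false

namespace Cfsg.Lib.SpA

open Subgroup Matrix Cfsg.Lib.Symp Cfsg.Lib.Chev Cfsg.Lib.Root RootSys Sum
open scoped MatrixGroups

variable {F : Type*} [Field F] {E : Type*} [Group E] {l k : Type} [Fintype l] [DecidableEq l]
  [Fintype k] [DecidableEq k]

theorem map_emb_Fi {κ : k → l} (h : Function.Injective κ) {p : l ⊕ l → Prop} {q : k ⊕ k → Prop}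
    (h1 : ∀ x, x ∉ Set.range (Sum.map κ κ) → p x) (h2 : ∀ x, q x ↔ p (Sum.map κ κ x)) :
    (Fi F q).map (emb F h) = Fi F p := by
  obtain rfl : q = fun x => p (Sum.map κ κ x) := funext fun x => propext (h2 x)
  exact le_antisymm (map_le_iff_le_comap.2 fun g hg => (emb_mem_Fi h).2 hg)
    fun g hg => exists_emb h h1 hg

theorem map_Sa {κ : k → l} (h : Function.Injective κ) (i : k) :
    (Sa F i).map (emb F h) = Sa F (κ i) :=
  map_emb_Fi h (fun _ hx => ⟨fun e => hx ⟨inl i, e.symm⟩, fun e => hx ⟨inr i, e.symm⟩⟩)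
    (by rintro (x | x) <;> simp [h.eq_iff])

theorem map_Ma {κ : k → l} (h : Function.Injective κ) (i j : k) :
    (Ma F i j).map (emb F h) = Ma F (κ i) (κ j) :=
  map_emb_Fi h (fun _ hx => ⟨fun e => hx ⟨inr i, e.symm⟩, fun e => hx ⟨inr j, e.symm⟩⟩)
    (by rintro (x | x) <;> simp [h.eq_iff])

omit [Fintype l] [DecidableEq l] in
theorem inj_pair {a b : l} (h : a ≠ b) : Function.Injective ![a, b] := by
  intro i j e
  fin_cases i <;> fin_cases j <;> simp_all [h.symm]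

variable {π : E →* symplecticGroup l F}

theorem Good.le_cent {X Y : Subgroup E} (h : Good π (X ⊔ Y)) {p q : l ⊕ l → Prop}
    (hX : X.map π = Fi F p) (hY : Y.map π = Fi F q) (e : ∀ x, p x ∨ q x.swap) :
    X ≤ centralizer Y := fun x hx => mem_centralizer_iff.2 fun y hy =>
  (h.commute (mem_sup_left hx) (mem_sup_right hy)
    (commute_Fi e (hX.le ⟨x, hx, rfl⟩) (hY.le ⟨y, hy, rfl⟩))).symm

theorem exists_c2' {a b : l} (h : a ≠ b) {A B M : Subgroup E} (hA : A.map π = Sa F a)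
    (hB : B.map π = Sa F b) (hM : M.map π = Ma F a b) (g1 : Good π (A ⊔ B)) (g2 : Good π (M ⊔ A))
    (g3 : Good π (M ⊔ B)) : ∃ ψ : symplecticGroup (Fin 2) F →* E, π.comp ψ = emb F (inj_pair h) ∧
      ψ.range = A ⊔ B ⊔ M ∧ Good π (A ⊔ B ⊔ M) ∧ (Sa F 0).map ψ = A ∧ (Sa F 1).map ψ = B ∧
      (Ma F 0 1).map ψ = M := by
  obtain ⟨ψ, h1, h2⟩ := exists_c2 (π := π) (ι := emb F (inj_pair h)) ![A, B] M
    (Fin.forall_fin_two.2 ⟨hA.trans (map_Sa (inj_pair h) 0).symm,
      hB.trans (map_Sa (inj_pair h) 1).symm⟩) (hM.trans (map_Ma (inj_pair h) 0 1).symm) g1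
    (Fin.forall_fin_two.2 ⟨g2, g3⟩)
  replace h2 : ψ.range = A ⊔ B ⊔ M := h2
  have h3 : Good π ψ.range := good_range (h1 ▸ emb_injective _)
  have h4 : ∀ (N : Subgroup _) X, X ≤ A ⊔ B ⊔ M → X.map π = N.map (emb F (inj_pair h)) →
      N.map ψ = X :=
    fun N X hX e => by
      rw [← h1, ← Subgroup.map_map] at e
      refine le_antisymm (fun x hx => ?_) fun x hx => ?_
      · obtain ⟨y, hy, e'⟩ := e.ge ⟨x, hx, rfl⟩
        exact h3.eq (h2.ge (hX hy)) (map_le_range _ _ hx) e' ▸ hy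
      · obtain ⟨y, hy, e'⟩ := e.le ⟨x, hx, rfl⟩
        exact h3.eq (map_le_range _ _ hy) (h2.ge (hX hx)) e' ▸ hy
  exact ⟨ψ, h1, h2, h2 ▸ h3, h4 _ _ (le_sup_of_le_left le_sup_left) 
    (hA.trans (map_Sa (inj_pair h) 0).symm),
    h4 _ _ (le_sup_of_le_left le_sup_right) (hB.trans (map_Sa (inj_pair h) 1).symm),
    h4 _ _ le_sup_right (hM.trans (map_Ma (inj_pair h) 0 1).symm)⟩

theorem cent_sup {X A B : Subgroup E} (h1 : X ≤ centralizer A) (h2 : X ≤ centralizer B) :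
    X ≤ centralizer (A ⊔ B : Subgroup E) :=
  le_centralizer_iff.1 (sup_le (le_centralizer_iff.1 h1) (le_centralizer_iff.1 h2))

theorem good_stab (hF : ∃ a : F, a ≠ 0 ∧ a ≠ 1) {a b c : l} (hba : b ≠ a) (hbc : b ≠ c)
    (hac : a ≠ c) {A B C M N : Subgroup E} (hA : A.map π = Sa F a) (hB : B.map π = Sa F b)
    (hC : C.map π = Sa F c) (hM : M.map π = Ma F b a) (hN : N.map π = Ma F b c)
    (g1 : Good π (B ⊔ A)) (g2 : Good π (B ⊔ C)) (g3 : Good π (A ⊔ C)) (g4 : Good π (M ⊔ A))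
    (g5 : Good π (M ⊔ B)) (g6 : Good π (M ⊔ C)) (g7 : Good π (N ⊔ A)) (g8 : Good π (N ⊔ B))
    (g9 : Good π (N ⊔ C)) (g0 : Good π (M ⊔ N)) : Good π (B ⊔ C ⊔ N ⊔ M) := by
  obtain ⟨ψ, p1, -, -, p2, p3, p4⟩ := exists_c2' hba hB hA hM g1 g5 g4
  obtain ⟨φ, q1, q0, -, q2, q3, q4⟩ := exists_c2' hbc hB hC hN g2 g8 g9
  rw [← q0, ← p4]
  refine good_heis hF hac _ _ p1 q1 (fun g hg => (g1.mono le_sup_left).eq (p2.le ⟨g, hg, rfl⟩)
    (q2.le ⟨g, hg, rfl⟩) ?_) (fun g hg h => ?_) fun g hg h hh => ?_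
  · rw [← MonoidHom.comp_apply, p1, ← MonoidHom.comp_apply, q1]
    refine Sa_le (N := (emb F _).eqLocus (emb F _)) (fun t => ?_) (fun t => ?_) hg <;>
    · change emb F _ _ = emb F _ _
      rw [emb_sgp _ (map_zero _), emb_sgp _ (map_zero _), jm_bv, jm_bv, mulVec_zero, mulVec_zero]
      rfl
  · have := cent_sup (cent_sup (le_centralizer_iff.1 (g1.le_cent hB hA ?_)) (g3.le_cent hA hC ?_))
      (le_centralizer_iff.1 (g7.le_cent hN hA ?_))
    · exact (mem_centralizer_iff.1 (this (p3.le ⟨g, hg, rfl⟩)) _ (q0.le ⟨h, rfl⟩)).symm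
    all_goals rintro (x | x) <;> by_cases e : x = a <;> simp [e, hba.symm, hac]
  · have := cent_sup (g0.le_cent hM hN ?_) (g6.le_cent hM hC ?_)
    · exact (mem_centralizer_iff.1 (this (p4.le ⟨g, hg, rfl⟩)) _
        (by rw [← q4, ← q3, ← Subgroup.map_sup]; exact ⟨h, hh, rfl⟩)).symm
    all_goals rintro (x | x) <;> by_cases e : x = c <;> simp [e, hbc.symm, hac.symm]

theorem exists_cj {a b : l} (h : a ≠ b) {M : Subgroup E} (hM : M.map π = Ma F a b) {w : E}
    (hw : π w ∈ Sa F b) (e : (π w).1 *ᵥ bv F (inl b) = bv F (inr b)) (t : F) :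
    ∃ x ∈ cj w M, π x = sgp (bv F (inl a)) (t • bv F (inr b)) 0 := by
  obtain ⟨m, hm, e'⟩ := hM.ge (sgp_mem_Ma a b t 0)
  refine ⟨_, ⟨m, hm, rfl⟩, ?_⟩
  simp only [MulEquiv.coe_toMonoidHom, MulAut.conj_apply, map_mul, map_inv]
  rw [e', conj_sgp _ (by simp [bil_inl, bv_apply]), hw _ (by simp [h]), mulVec_smul, e]

theorem le_cj {w : E} {L K : Subgroup E} (h : w ∈ centralizer (L : Set E)) (hK : L ≤ K) :
    L ≤ cj w K := fun x hx => ⟨x, hK hx, by simp [← mem_centralizer_iff.1 h x hx]⟩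

theorem cj_le {w : E} {L K : Subgroup E} (h : w ∈ K) (hK : L ≤ K) : cj w L ≤ K := by
  rintro _ ⟨x, hx, rfl⟩
  exact mul_mem (mul_mem h (hK hx)) (inv_mem h)

section Roots

variable {m : ℕ}

theorem x_simple (i : Fin m) (t : F) : xSp F ((rootC (m + 1)).simple i.castSucc) t =
    sgp (bv F (inl i.castSucc)) (t • bv F (inr i.succ)) 0 := by
  rw [xSp_short (by simp [EucData.rootSys, eucC, Fin.ext_iff]; omega), bvC_eq, bvC_eq]
  have h1 : ¬ 2 * (m + 1) ≤ m + i + 2 := by omega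
  have h2 : 2 * (m + 1) - 1 - (2 * (m + 1) - 2 - i) = i + 1 := by omega
  simp [EucData.rootSys, eucC, idx, sgC, i.2.le, Nat.lt_succ_iff.2 i.2.le, h1, h2]
  rfl

theorem x_neg_simple (i : Fin m) (t : F) :
    xSp F ((rootC (m + 1)).neg ((rootC (m + 1)).simple i.castSucc)) t =
      sgp (bv F (inl i.succ)) (t • bv F (inr i.castSucc)) 0 := by
  rw [xSp_short (by simp [EucData.rootSys, eucC, Rt.neg, Fin.ext_iff]; omega), bvC_eq, bvC_eq]
  have h1 : ¬ 2 * (m + 1) ≤ m + (i + 1) := by omega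
  have h2 : 2 * (m + 1) - (2 * (m + 1) - 2 - i + 1) = i + 1 := by omega
  have h3 : 2 * (m + 1) - 1 - (2 * (m + 1) - (i + 1)) = i := by omega
  simp [EucData.rootSys, eucC, Rt.neg, idx, sgC, h1, h2, h3]
  rfl

theorem x_last (t : F) : xSp F ((rootC (m + 1)).simple (Fin.last m)) t =
    sgp (bv F (inl (Fin.last m))) 0 t := by
  rw [xSp_long (by simp [EucData.rootSys, eucC, Fin.ext_iff]; omega), bvC_eq]
  simp [EucData.rootSys, eucC, idx, sgC]
  rfl

theorem x_neg_last (t : F) : xSp F ((rootC (m + 1)).neg ((rootC (m + 1)).simple (Fin.last m))) t =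
    sgp (bv F (inr (Fin.last m))) 0 (-t) := by
  rw [xSp_long (by simp [EucData.rootSys, eucC, Rt.neg, Fin.ext_iff]; omega), bvC_eq]
  have h1 : 2 * (m + 1) - (2 * (m + 1) - 2 - m + 1) = m + 1 := by omega
  have h2 : 2 * (m + 1) - 1 - (m + 1) = m := by omega
  simp [EucData.rootSys, eucC, Rt.neg, idx, sgC, h1, h2]
  rfl

end Roots

set_option maxHeartbeats 1000000 in
theorem exists_section (hF : ∃ a : F, a ≠ 0 ∧ a ≠ 1) {m : ℕ}
    {π : E →* symplecticGroup (Fin (m + 1)) F} {S : Fin (m + 1) → Subgroup E}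
    {M : Fin m → Subgroup E} (hS : ∀ j, (S j).map π = Sa F j)
    (hM : ∀ i, (M i).map π = Ma F i.castSucc i.succ) (g0 : ∀ j, Good π (S j))
    (g1 : ∀ j l, j ≠ l → Good π (S j ⊔ S l))
    (g2 : ∀ i j, i ≠ j → Good π (M i ⊔ M j)) (g3 : ∀ i j, Good π (M i ⊔ S j)) :
    ∃ φ : symplecticGroup (Fin (m + 1)) F →* E, π.comp φ = .id _ ∧ (∀ j, S j ≤ φ.range) ∧
      ∀ i, M i ≤ φ.range := by
  let X := realSp F (m + 1)
  have hA := (repC (idx (m + 1))).anti
  have hM' : ∀ i, (M i).map π = Ma F i.succ i.castSucc := fun i => (hM i).trans (Ma_comm _ _)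
  have ne : ∀ i : Fin m, i.castSucc ≠ i.succ := fun i => Fin.castSucc_lt_succ.ne
  choose ψ ψ1 ψ2 ψ3 ψ4 ψ5 ψ6 using fun i => exists_c2' (ne i) (hS _) (hS _) (hM i) (g1 _ _ (ne i))
    (g3 _ _) (g3 _ _)
  have hw : ∀ j, ∃ w ∈ S j, π w ∈ Sa F j ∧ (π w).1 *ᵥ bv F (inl j) = bv F (inr j) := fun j => by
    obtain ⟨g, hg, e⟩ := exists_w (F := F) j
    obtain ⟨w, h1, rfl⟩ := (hS j).ge hg
    exact ⟨w, h1, hg, e⟩
  choose w w1 w2 w3 using hw
  let L : Fin (m + 1) → Subgroup E :=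
    Fin.lastCases (S (.last m)) fun i => S i.castSucc ⊔ S i.succ ⊔ M i
  have L1 : L (.last m) = S (.last m) := Fin.lastCases_last
  have L2 : ∀ i : Fin m, L i.castSucc = S i.castSucc ⊔ S i.succ ⊔ M i := Fin.lastCases_castSucc
  have gL : ∀ k, Good π (L k) := Fin.lastCases (L1 ▸ g0 _) fun i => L2 i ▸ ψ3 i
  have s1 : ∀ i : Fin m, S i.castSucc ≤ L i.castSucc := fun i =>
    L2 i ▸ le_sup_of_le_left le_sup_left
  have s2 : ∀ i : Fin m, S i.succ ≤ L i.castSucc := fun i => L2 i ▸ le_sup_of_le_left le_sup_right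
  have s3 : ∀ i : Fin m, M i ≤ L i.castSucc := fun i => L2 i ▸ le_sup_right
  have hp : ∀ k t, ∃ e ∈ L k, π e = X.sys.x ((rootC _).simple k) t ∧
      ∀ i : Fin m, k = i.castSucc → e ∈ cj (w i.succ) (M i) := fun k t => by
    induction k using Fin.lastCases with
    | last =>
      obtain ⟨e, h, h'⟩ := (hS (.last m)).ge (sgp_mem_Fi (u := bv F (inl (.last m))) (map_zero _) t
        (by rintro (x | x) h <;> simp_all [bv_apply]) fun _ _ => rfl)
      exact ⟨e, L1 ▸ h, h'.trans (x_last t).symm, fun i h => ((Fin.castSucc_lt_last i).ne' h).elim⟩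
    | cast i =>
      obtain ⟨e, h, h'⟩ := exists_cj (ne i) (hM i) (w2 _) (w3 _) t
      exact ⟨e, cj_le (s2 i (w1 _)) (s3 i) h, h'.trans (x_simple i t).symm,
        fun j e => Fin.castSucc_injective _ e ▸ h⟩
  have hm : ∀ k t, ∃ e ∈ L k, π e = X.sys.x ((rootC _).neg ((rootC _).simple k)) t ∧
      ∀ i : Fin m, k = i.castSucc → e ∈ cj (w i.castSucc) (M i) := fun k t => by
    induction k using Fin.lastCases with
    | last =>
      obtain ⟨e, h, h'⟩ := (hS (.last m)).ge (sgp_mem_Fi (u := bv F (inr (.last m))) (map_zero _)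
        (-t) (by rintro (x | x) h <;> simp_all [bv_apply]) fun _ _ => rfl)
      exact ⟨e, L1 ▸ h, h'.trans (x_neg_last t).symm,
        fun i h => ((Fin.castSucc_lt_last i).ne' h).elim⟩
    | cast i =>
      obtain ⟨e, h, h'⟩ := exists_cj (ne i).symm (hM' i) (w2 _) (w3 _) t
      exact ⟨e, cj_le (s1 i (w1 _)) (s3 i) h, h'.trans (x_neg_simple i t).symm,
        fun j e => Fin.castSucc_injective _ e ▸ h⟩
  choose p p1 p2 p3 using hp
  choose q q1 q2 q3 using hm
  have rk : ∀ k, Rk1 (p k) (q k) := fun k =>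
    (gL k).rk1 (X.hMul.rk1 _) (p1 k) (q1 k) (p2 k) (q2 k)
  have cS : ∀ (i : Fin m) j, j ≠ i.castSucc → j ≠ i.succ → L i.castSucc ≤ centralizer (S j) :=
    fun i j h1 h2 => by
      rw [L2]
      refine sup_le (sup_le ((g1 _ _ h1.symm).le_cent (hS _) (hS _) ?_)
        ((g1 _ _ h2.symm).le_cent (hS _) (hS _) ?_)) ((g3 _ _).le_cent (hM _) (hS _) ?_) <;>
      rintro (x | x) <;> by_cases e : x = j <;> simp [e, h1, h2]
  have cL : ∀ (i : Fin m) (j : Fin (m + 1)), i.val + 2 ≤ j → L i.castSucc ≤ centralizer (L j) :=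
    fun i j h => by
      induction j using Fin.lastCases with
      | last =>
        refine L1 ▸ cS _ _ ?_ ?_ <;> (simp [Fin.ext_iff] at h ⊢; omega)
      | cast j =>
        simp only [Fin.val_castSucc] at h
        rw [L2 j]
        refine cent_sup (cent_sup (cS _ _ ?_ ?_) (cS _ _ ?_ ?_)) (le_centralizer_iff.1 ?_)
        iterate 4 (simp [Fin.ext_iff]; omega)
        rw [L2]
        refine cent_sup (cent_sup ((s3 j).trans (cS _ _ ?_ ?_)) ((s3 j).trans (cS _ _ ?_ ?_)))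
          ((g2 _ _ ?_).le_cent (hM _) (hM _) (by rintro (x | x) <;> simp))
        all_goals (simp [Fin.ext_iff]; omega)
  have key : ∀ i j : Fin (m + 1), i < j → ∃ y, (repC (idx (m + 1))).tab.Loc p q (pr i j) y := by
    intro i j hij
    obtain ⟨i, rfl⟩ := Fin.exists_castSucc_eq.2 (hij.trans_le (Fin.le_last j)).ne
    by_cases h : i.val + 2 ≤ j
    · refine ChevTab.exists_loc_orth (fun k => (rk k).x_add) (fun k => (rk k).y_add)
        (.inr ⟨by simp only [A_C, Fin.ext_iff, Fin.val_castSucc]; split_ifs <;> omega, ?_⟩)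
      have := fun x hx y hy => (mem_centralizer_iff.1 (cL i j h (x := x) hx) y hy).symm
      simp only [List.forall_mem_cons, List.not_mem_nil, false_imp_iff, implies_true, and_true]
      exact ⟨⟨fun _ _ => this _ (p1 _ _) _ (p1 _ _), fun _ _ => this _ (p1 _ _) _ (q1 _ _)⟩,
        fun _ _ => this _ (q1 _ _) _ (p1 _ _), fun _ _ => this _ (q1 _ _) _ (q1 _ _)⟩
    have hj : j = i.succ := by simp [Fin.ext_iff, Fin.lt_def] at hij ⊢; omega
    induction j using Fin.lastCases with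
    | last =>
      have : L (.last m) ≤ L i.castSucc := by rw [L1, hj]; exact s2 i
      refine (gL i.castSucc).loc X.sys X.strongComm ?_ ?_ <;> rintro k (rfl | rfl) t
      exacts [⟨p1 _ _, p2 _ _⟩, ⟨this (p1 _ _), p2 _ _⟩, ⟨q1 _ _, q2 _ _⟩, ⟨this (q1 _ _), q2 _ _⟩]
    | cast j =>
      have hj' : j.val = i + 1 := by simpa [Fin.ext_iff] using hj
      have a1 : (rootC (m + 1)).A i.castSucc j.castSucc = -1 := by
        simp only [A_C, Fin.ext_iff, Fin.val_castSucc]; split_ifs <;> omega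
      have a2 : (rootC (m + 1)).A j.castSucc i.castSucc = -1 := by
        simp only [A_C, Fin.ext_iff, Fin.val_castSucc]; split_ifs <;> omega
      have n1 : i.castSucc ≠ j.succ := by simp [Fin.ext_iff]; omega
      have n2 : i ≠ j := by simp [Fin.ext_iff]; omega
      obtain ⟨φ, f1, f2, f3, f4⟩ := X.hMul.a2Pair X.strongComm hA a1 a2
      have k1 : Good π (L j.castSucc ⊔ M i) := L2 j ▸ good_stab hF hij.ne' (ne j) n1 (hS _) (hS _)
        (hS _) (hj ▸ hM' i) (hM j) (g1 _ _ hij.ne') (g1 _ _ (ne j)) (g1 _ _ n1) (g3 _ _) (g3 _ _)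
        (g3 _ _) (g3 _ _) (g3 _ _) (g3 _ _) (g2 _ _ n2)
      have k2 : Good π (L i.castSucc ⊔ M j) := by
        rw [L2, sup_comm (S _), ← hj]
        exact good_stab hF (ne j) hij.ne' n1.symm (hS _) (hS _) (hS _) (hM j) (hj ▸ hM' i)
          (g1 _ _ (ne j)) (g1 _ _ hij.ne') (g1 _ _ n1.symm) (g3 _ _) (g3 _ _) (g3 _ _) (g3 _ _)
          (g3 _ _) (g3 _ _) (g2 _ _ n2.symm)
      let K : Fin 3 → ℤˣ → Subgroup E := fun k c => if k = 0 then
        if c = 1 then L j.castSucc ⊔ M i else cj (w i.castSucc) (L j.castSucc ⊔ M i) else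
        if c = 1 then L i.castSucc ⊔ M j else cj (w j.succ) (L i.castSucc ⊔ M j)
      have b1 : ∀ c, L j.castSucc ≤ K 0 c := fun c => by
        simp only [K, if_true]
        split_ifs
        exacts [le_sup_left, le_cj (le_centralizer_iff.1 (cS _ _ hij.ne n1) (w1 _)) le_sup_left]
      have b2 : ∀ c, L i.castSucc ≤ K 2 c := fun c => by
        simp only [K, show ¬ (2 : Fin 3) = 0 by decide, if_false]
        split_ifs
        exacts [le_sup_left, le_cj (le_centralizer_iff.1 (cS _ _ n1.symm (hj ▸ (ne j).symm)) (w1 _))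
          le_sup_left]
      obtain ⟨y, y1, y2, y3⟩ := exists_a2 (π := π) φ K (fun k _ c => by
        simp only [K]
        split_ifs
        exacts [k1, k1.cj _, k2, k2.cj _]) (fun r => if r.1 = (0, 1) then p i.castSucc else
          if r.1 = (1, 0) then q i.castSucc else if r.1 = (1, 2) then p j.castSucc else q j.castSucc)
        (by
          have : ∀ r : RtA 3, r.1.1 = 1 ∨ r.1.2 = 1 → r = ⟨(0, 1), by decide⟩ ∨
            r = ⟨(1, 0), by decide⟩ ∨ r = ⟨(1, 2), by decide⟩ ∨ r = ⟨(2, 1), by decide⟩ := by decide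
          have c : ∀ k : Fin 3, k ≠ 1 → k = 0 ∨ k = 2 := by decide
          intro r hr t
          rcases this r hr with rfl | rfl | rfl | rfl
          · refine ⟨(p2 _ _).trans (f1 t).symm, fun k hk c' hc => ?_⟩
            obtain rfl | rfl := c k hk
            · obtain rfl : c' = 1 := by revert c'; decide
              exact cj_le (mem_sup_left (s1 j (hj ▸ w1 _))) le_sup_right (p3 _ t i rfl)
            · exact b2 _ (p1 _ _)
          · refine ⟨(q2 _ _).trans (f2 t).symm, fun k hk c' hc => ?_⟩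
            obtain rfl | rfl := c k hk
            · obtain rfl : c' = -1 := by revert c'; decide
              exact map_mono le_sup_right (q3 _ t i rfl)
            · exact b2 _ (q1 _ _)
          · refine ⟨(p2 _ _).trans (f3 t).symm, fun k hk c' hc => ?_⟩
            obtain rfl | rfl := c k hk
            · exact b1 _ (p1 _ _)
            · obtain rfl : c' = -1 := by revert c'; decide
              exact map_mono le_sup_right (p3 _ t j rfl)
          · refine ⟨(q2 _ _).trans (f4 t).symm, fun k hk c' hc => ?_⟩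
            obtain rfl | rfl := c k hk
            · exact b1 _ (q1 _ _)
            · obtain rfl : c' = 1 := by revert c'; decide
              exact cj_le (mem_sup_left (s2 i (hj ▸ w1 _))) le_sup_right (q3 _ t j rfl))
      obtain ⟨ρ, ε, hE⟩ := ChevTab.exists_emb_A2 _ hA a1 a2
      rw [← range_two]
      exact hE.exists_loc y1 y2 (Fin.forall_fin_two.2 ⟨y3 _ (.inr rfl), y3 _ (.inl rfl)⟩)
        (Fin.forall_fin_two.2 ⟨y3 _ (.inl rfl), y3 _ (.inr rfl)⟩)
  have key' : ∀ i j, ∃ y, (repC (idx (m + 1))).tab.Loc p q (pr i j) y := fun i j => by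
    rcases lt_trichotomy i j with h | h | h
    · exact key i j h
    · exact ChevTab.exists_loc_orth (fun k => (rk k).x_add) (fun k => (rk k).y_add) (.inl h)
    · rw [show pr i j = pr j i from Set.ext fun _ => or_comm]
      exact key j i h
  choose y hy using key'
  obtain ⟨C', c1, c2, c3⟩ := X.faithful.exists_sys_of_loc X.strongComm X.hMul rk hy
  obtain ⟨φ, hφ⟩ := X.faithful.exists_hom_of_sc X.grp_eq X.hMul (X.torus_injective (full_repC _))
    c1 c2
  have e1 : ∀ k t, φ (π (p k t)) = p k t := fun k t => by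
    rw [p2, hφ, c3 k k _ (inJ_simple_iff.2 (.inl rfl)), (hy k k).pos k (.inl rfl)]
  have e2 : ∀ k t, φ (π (q k t)) = q k t := fun k t => by
    rw [q2, hφ, c3 k k _ (inJ_simple_iff.2 (.inl rfl)).neg, (hy k k).neg k (.inl rfl)]
  have e3 : ∀ i : Fin m, S i.succ ≤ φ.range → L i.castSucc ≤ φ.range := fun i h => by
    have r1 := fun g => (L2 i).ge ((ψ2 i).le ⟨g, rfl⟩)
    have r2 : ∀ g, π (ψ i g) = emb F _ g := DFunLike.congr_fun (ψ1 i)
    have r3 : ∀ x : Fin 2 ⊕ Fin 2, x = inl 1 ∨ x = inr 1 → ∀ t, ψ i (sgp (bv F x) 0 t) ∈ φ.range :=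
      fun x hx t => h ((ψ5 i).le ⟨_, sgp_mem_Fi (map_zero _) t (fun z hz => by
        rcases z with z | z <;> fin_cases z <;> rcases hx with rfl | rfl <;> simp_all [bv_apply])
        fun _ _ => rfl, rfl⟩)
    rw [L2, ← ψ2]
    rintro _ ⟨g, rfl⟩
    refine ((realSp F 2).grp_eq.ge.trans ((realSp F 2).sys.grp_le_of_simple (K := φ.range.comap
      (ψ i)) (Fin.forall_fin_two.2 ⟨fun t => ?_, fun t => ?_⟩)
      (Fin.forall_fin_two.2 ⟨fun t => ?_, fun t => ?_⟩))) (mem_top g)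
    · refine ⟨_, (e1 _ t).trans ((gL _).eq (p1 _ _) (r1 _) ?_)⟩
      rw [p2, r2, show (realSp F 2).sys.x ((rootC 2).simple 0) t = _ from x_simple (0 : Fin 1) t,
        emb_sgp _ (by simp [bil_inr, bv_apply]), mulVec_smul, jm_bv, jm_bv]
      exact x_simple i t
    · exact mem_comap.2 ((show (realSp F 2).sys.x _ t = _ from x_last (m := 1) t) ▸ r3 _ (.inl rfl) _)
    · refine ⟨_, (e2 _ t).trans ((gL _).eq (q1 _ _) (r1 _) ?_)⟩
      rw [q2, r2, show (realSp F 2).sys.x ((rootC 2).neg ((rootC 2).simple 0)) t = _ from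
        x_neg_simple (0 : Fin 1) t,
        emb_sgp _ (by simp [bil_inr, bv_apply]), mulVec_smul, jm_bv, jm_bv]
      exact x_neg_simple i t
    · exact mem_comap.2
        ((show (realSp F 2).sys.x _ t = _ from x_neg_last (m := 1) t) ▸ r3 _ (.inr rfl) _)
  have e4 : ∀ j, S j ≤ φ.range := fun j => by
    induction j using Fin.reverseInduction with
    | last =>
      intro x hx
      obtain ⟨z, hz, e⟩ := Sa_le (N := (S (.last m) ⊓ φ.range).map π)
        (fun t => ⟨_, ⟨L1 ▸ p1 _ t, _, e1 _ t⟩, (p2 _ _).trans (x_last t)⟩)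
        (fun t => ⟨_, ⟨L1 ▸ q1 _ (-t), _, e2 _ _⟩, by
          rw [q2, show X.sys.x _ _ = _ from x_neg_last (-t), _root_.neg_neg]⟩) ((hS _).le ⟨x, hx, rfl⟩)
      exact g0 _ |>.eq hz.1 hx e ▸ hz.2
    | cast i ih => exact (s1 i).trans (e3 i ih)
  refine ⟨φ, MonoidHom.ext fun g => (X.grp_eq.ge.trans (X.sys.grp_le_of_simple
    (K := (π.comp φ).eqLocus (.id _)) (fun k t => ?_) fun k t => ?_)) (mem_top g), e4,
    fun i => (s3 i).trans (e3 i (e4 _))⟩
  · rw [← p2]
    exact congrArg π (e1 k t)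
  · rw [← q2]
    exact congrArg π (e2 k t)

theorem eq_top_of_le {m : ℕ} {N : Subgroup (symplecticGroup (Fin (m + 1)) F)} (h1 : ∀ j, Sa F j ≤ N)
    (h2 : ∀ i : Fin m, Ma F i.castSucc i.succ ≤ N) : N = ⊤ := by
  have h3 : ∀ {a b : Fin (m + 1)}, a ≠ b → Ma F a b ≤ N → ∀ t : F,
      sgp (bv F (inl a)) (t • bv F (inr b)) 0 ∈ N := fun {a b} h h' t => by
    obtain ⟨w, w1, w2⟩ := exists_w (F := F) b
    obtain ⟨x, hx, e⟩ := exists_cj (π := .id _) h (map_id _) w1 w2 t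
    exact e ▸ cj_le (h1 _ w1) h' hx
  refine eq_top_iff.2 ((realSp F _).grp_eq.ge.trans ((realSp F _).sys.grp_le_of_simple
    (fun k t => ?_) fun k t => ?_)) <;> change xSp F _ t ∈ N <;> induction k using Fin.lastCases
  · exact (x_last t).symm ▸ h1 (.last m) (sgp_mem_Fi (map_zero _) t
      (by rintro (x | x) h <;> simp_all [bv_apply]) fun _ _ => rfl)
  · exact (x_simple _ t).symm ▸ h3 Fin.castSucc_lt_succ.ne (h2 _) t
  · exact (x_neg_last t).symm ▸ h1 (.last m) (sgp_mem_Fi (map_zero _) (-t)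
      (by rintro (x | x) h <;> simp_all [bv_apply]) fun _ _ => rfl)
  · exact (x_neg_simple _ t).symm ▸ h3 Fin.castSucc_lt_succ.ne' ((Ma_comm _ _).le.trans (h2 _)) t

variable {G H : Type*} [Group G] [Group H]

/-- The graph of a homomorphism on a subgroup. -/
def gr {A : Subgroup G} (α : A →* H) : Subgroup (G × H) := (A.subtype.prod α).range

theorem map_gr {A : Subgroup G} (α : A →* H) : (gr α).map (.fst G H) = A := by
  rw [gr, ← MonoidHom.range_comp]
  exact A.range_subtype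

theorem good_gr {A : Subgroup G} (α : A →* H) : Good (.fst G H) (gr α) :=
  good_range Subtype.val_injective

theorem good_gr_sup {A B : Subgroup G} {α : A →* H} {β : B →* H} (h : ∃ Ψ : ↥(A ⊔ B) →* H,
    (∀ g (hg : g ∈ A), Ψ ⟨g, mem_sup_left hg⟩ = α ⟨g, hg⟩) ∧
      ∀ g (hg : g ∈ B), Ψ ⟨g, mem_sup_right hg⟩ = β ⟨g, hg⟩) : Good (.fst G H) (gr α ⊔ gr β) := by
  obtain ⟨Ψ, h1, h2⟩ := h
  refine (good_gr Ψ).mono (sup_le ?_ ?_) <;> rintro _ ⟨g, rfl⟩
  exacts [⟨⟨g, mem_sup_left g.2⟩, Prod.ext rfl (h1 g g.2)⟩,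
    ⟨⟨g, mem_sup_right g.2⟩, Prod.ext rfl (h2 g g.2)⟩]

theorem eq_of_gr_le {A : Subgroup G} {α : A →* H} {φ : G →* G × H}
    (h : (MonoidHom.fst G H).comp φ = .id _) (h' : gr α ≤ φ.range) (g : G) (hg : g ∈ A) :
    (φ g).2 = α ⟨g, hg⟩ := by
  obtain ⟨x, e⟩ := h' ⟨⟨g, hg⟩, rfl⟩
  obtain rfl : x = g := (DFunLike.congr_fun h x).symm.trans (congrArg Prod.fst e)
  exact congrArg Prod.snd e

end Cfsg.Lib.SpA
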