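import Cfsg.Agent.Lib.Symp.Group
import Cfsg.Agent.Lib.Symp.Siegel

/-! Coordinate subgroups of the symplectic group and the embeddings of smaller symplectic groups. -/

set_option autoImplicit false

namespace Cfsg.Lib.SpA

open Subgroup Matrix Cfsg.Lib.Symp Sum

variable {F : Type*} [Field F] {l k : Type} [Fintype l] [DecidableEq l] [Fintype k] [DecidableEq k]

/-- The standard basis vectors. -/
def bv (F : Type*) [Field F] (x : l ⊕ l) : l ⊕ l → F := Pi.single x 1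

theorem eq_sum_bv (v : l ⊕ l → F) : v = ∑ x, v x • bv F x := by
  ext y
  simp [bv, Pi.single_apply]

theorem sp_ext' {A B : symplecticGroup l F} (h : ∀ x, A.1 *ᵥ bv F x = B.1 *ᵥ bv F x) : A = B :=
  Subtype.ext (Matrix.ext fun i j => by simpa [bv] using congrFun (h j) i)

theorem sp_ext {A B : symplecticGroup l F} (h : ∀ v, A.1 *ᵥ v = B.1 *ᵥ v) : A = B :=
  sp_ext' fun _ => h _

theorem mul_mulVec (A B : symplecticGroup l F) (v : l ⊕ l → F) :
    (A * B).1 *ᵥ v = A.1 *ᵥ (B.1 *ᵥ v) := by simp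

theorem bil_inl (v : l ⊕ l → F) (i : l) : bil l F v (bv F (inl i)) = v (inr i) := by
  simp [bv, bil_single_inl_right]

theorem bil_inr (v : l ⊕ l → F) (i : l) : bil l F v (bv F (inr i)) = - v (inl i) := by
  simp [bv, bil_single_inr_right]

theorem bil_skew (u v : l ⊕ l → F) : bil l F u v = - bil l F v u :=
  ((bil_isAlt l F).neg_eq v u).symm

theorem bil_self (u : l ⊕ l → F) : bil l F u u = 0 := (bil_isAlt l F).self_eq_zero u

omit [Fintype l] in
theorem bv_apply (x y : l ⊕ l) : bv F x y = if y = x then 1 else 0 := by simp [bv, Pi.single_apply]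

omit [Fintype l] in
theorem bv_ne_zero (x : l ⊕ l) : bv F x ≠ 0 := fun h => by simpa [bv] using congrFun h x

theorem bil_bv_bv {x y : l ⊕ l} (h : x ≠ y.swap) : bil l F (bv F x) (bv F y) = 0 := by
  rcases y with y | y
  · rw [bil_inl, bv_apply, if_neg (by exact Ne.symm h)]
  · rw [bil_inr, bv_apply, if_neg (by exact Ne.symm h), neg_zero]

variable (F) in
/-- The elements fixing the basis vectors with index in `p`. -/
def Fi (p : l ⊕ l → Prop) : Subgroup (symplecticGroup l F) where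
  carrier := {A | ∀ x, p x → A.1 *ᵥ bv F x = bv F x}
  one_mem' x _ := by simp
  mul_mem' {A B} hA hB x hx := by rw [mul_mulVec, hB x hx, hA x hx]
  inv_mem' {A} hA x hx := by rw [← hA x hx, inv_mulVec_mulVec, hA x hx]

theorem Fi_mono {p q : l ⊕ l → Prop} (h : ∀ x, q x → p x) : Fi F p ≤ Fi F q :=
  fun _ hA x hx => hA x (h x hx)

theorem Fi.apply {p : l ⊕ l → Prop} {A : symplecticGroup l F} (hA : A ∈ Fi F p) {x : l ⊕ l}
    (hx : p x.swap) (v : l ⊕ l → F) : (A.1 *ᵥ v) x = v x := by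
  have := bil_mulVec A v (bv F x.swap)
  rw [hA _ hx] at this
  rcases x with x | x
  · simpa [bil_inr] using this
  · simpa [bil_inl] using this

theorem Fi.fix {p : l ⊕ l → Prop} {A : symplecticGroup l F} (hA : A ∈ Fi F p) {v : l ⊕ l → F}
    (hv : ∀ x, p x ∨ v x = 0) : A.1 *ᵥ v = v := by
  conv_lhs => rw [eq_sum_bv v, mulVec_sum]
  conv_rhs => rw [eq_sum_bv v]
  refine Finset.sum_congr rfl fun x _ => ?_
  rcases hv x with h | h
  · rw [mulVec_smul, hA x h]
  · simp [h]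

theorem commute_Fi {p q : l ⊕ l → Prop} (h : ∀ x, p x ∨ q x.swap) {A B : symplecticGroup l F}
    (hA : A ∈ Fi F p) (hB : B ∈ Fi F q) : Commute A B := sp_ext fun v => by
  have h1 := Fi.fix hB (v := A.1 *ᵥ v - v) fun x => (h x.swap).symm.imp (by simp) fun e => by
    simp [Fi.apply hA e]
  have h2 := Fi.fix hA (v := B.1 *ᵥ v - v) fun x => (h x).imp_right fun e => by
    simp [Fi.apply hB e]
  rw [mulVec_sub] at h1 h2
  rw [mul_mulVec, mul_mulVec, sub_eq_iff_eq_add.1 h1, sub_eq_iff_eq_add.1 h2]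
  abel

variable (F) in
/-- The special linear group of a coordinate plane. -/
abbrev Sa (a : l) : Subgroup (symplecticGroup l F) := Fi F fun x => x ≠ inl a ∧ x ≠ inr a

variable (F) in
/-- The abelian subgroup for two coordinate planes. -/
abbrev Ma (a b : l) : Subgroup (symplecticGroup l F) := Fi F fun x => x ≠ inr a ∧ x ≠ inr b

theorem Ma_comm (a b : l) : Ma F a b = Ma F b a :=
  le_antisymm (Fi_mono fun _ => And.symm) (Fi_mono fun _ => And.symm)

open Classical in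
/-- The elements of the unipotent radical of a vector stabilizer. -/
noncomputable def sgp (u w : l ⊕ l → F) (c : F) : symplecticGroup l F :=
  if h : bil l F u w = 0 then (spEquiv l F).symm (sg (bil_isAlt l F) u w c h) else 1

theorem sgp_mulVec {u w : l ⊕ l → F} (h : bil l F u w = 0) (c : F) (x : l ⊕ l → F) :
    (sgp u w c).1 *ᵥ x = x + bil l F x u • w + (bil l F x w + c * bil l F x u) • u := by
  rw [sgp, dif_pos h, spEquiv_symm_mulVec, sg_apply]

theorem sgp_mul {u w w' : l ⊕ l → F} (h : bil l F u w = 0) (h' : bil l F u w' = 0) (c c' : F) :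
    sgp u w c * sgp u w' c' = sgp u (w + w') (c + c' + bil l F w' w) := by
  rw [sgp, sgp, sgp, dif_pos h, dif_pos h', dif_pos (by rw [map_add, h, h', add_zero]), ← map_mul,
    sg_mul]

theorem conj_sgp (g : symplecticGroup l F) {u w : l ⊕ l → F} (h : bil l F u w = 0) (c : F) :
    g * sgp u w c * g⁻¹ = sgp (g.1 *ᵥ u) (g.1 *ᵥ w) c := by
  rw [mul_inv_eq_iff_eq_mul]
  refine sp_ext fun x => ?_
  rw [mul_mulVec, mul_mulVec, sgp_mulVec h, sgp_mulVec (by rw [bil_mulVec, h])]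
  simp only [bil_mulVec, mulVec_add, mulVec_smul]

theorem sgp_zero (u : l ⊕ l → F) : sgp u 0 0 = 1 := sp_ext fun x => by
  rw [sgp_mulVec (map_zero _)]
  simp

theorem sgp_swap {u w : l ⊕ l → F} (h : bil l F u w = 0) (t : F) :
    sgp u (t • w) 0 = sgp w (t • u) 0 := sp_ext fun x => by
  rw [sgp_mulVec (by simp [h]), sgp_mulVec (by simp [bil_skew w u, h])]
  simp only [map_smul, smul_eq_mul]
  module

theorem sgp_mem_Fi {p : l ⊕ l → Prop} {u w : l ⊕ l → F} (h : bil l F u w = 0) (c : F)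
    (hu : ∀ x, p x → u x.swap = 0) (hw : ∀ x, p x → w x.swap = 0) : sgp u w c ∈ Fi F p := by
  have : ∀ {v : l ⊕ l → F} {x}, v x.swap = 0 → bil l F (bv F x) v = 0 := fun {v x} e => by
    rw [bil_skew]
    rcases x with x | x
    · simpa [bil_inl] using e
    · simpa [bil_inr] using e
  intro x hx
  rw [sgp_mulVec h, this (hu x hx), this (hw x hx)]
  simp

section Emb

variable (κ : k → l)

/-- The matrix of the coordinate inclusion. -/
def jm (F : Type*) [Field F] : Matrix (l ⊕ l) (k ⊕ k) F :=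
  (1 : Matrix (l ⊕ l) (l ⊕ l) F).submatrix id (Sum.map κ κ)

omit [Fintype l] in
theorem jm_bv (x : k ⊕ k) : jm κ F *ᵥ bv F x = bv F (Sum.map κ κ x) := by
  ext y
  simp [jm, bv, one_apply, Pi.single_apply]

omit [Fintype k] [DecidableEq k] in
theorem jmT_mulVec (v : l ⊕ l → F) : (jm κ F)ᵀ *ᵥ v = v ∘ Sum.map κ κ := by
  ext y
  simp [jm, mulVec, dotProduct, one_apply]

theorem bil_jm (v : l ⊕ l → F) (u : k ⊕ k → F) :
    bil l F v (jm κ F *ᵥ u) = bil k F (v ∘ Sum.map κ κ) u := by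
  conv_lhs => rw [eq_sum_bv u, mulVec_sum, map_sum]
  conv_rhs => rw [eq_sum_bv u, map_sum]
  refine Finset.sum_congr rfl fun x _ => ?_
  rw [mulVec_smul, jm_bv, map_smul, map_smul]
  rcases x with x | x <;> simp [bil_inl, bil_inr]

omit [Fintype l] [DecidableEq k] in
theorem jm_apply_out (u : k ⊕ k → F) {x : l ⊕ l} (h : x ∉ Set.range (Sum.map κ κ)) :
    (jm κ F *ᵥ u) x = 0 :=
  Finset.sum_eq_zero fun y _ => by
    have : jm κ F x y = 0 := one_apply_ne fun e => h ⟨y, e.symm⟩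
    simp [this]

variable {κ} (hκ : Function.Injective κ)
include hκ

omit [Fintype l] [DecidableEq k] in
theorem jm_comp (u : k ⊕ k → F) : (jm κ F *ᵥ u) ∘ Sum.map κ κ = u := by
  classical
  ext y
  simp [jm, mulVec, dotProduct, one_apply, (hκ.sumMap hκ).eq_iff]

theorem bil_jm_jm (u v : k ⊕ k → F) : bil l F (jm κ F *ᵥ u) (jm κ F *ᵥ v) = bil k F u v := by
  rw [bil_jm, jm_comp hκ]

omit hκ [DecidableEq k] in
theorem emb_aux (A : Matrix (k ⊕ k) (k ⊕ k) F) (v : l ⊕ l → F) :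
    (1 - jm κ F * (jm κ F)ᵀ + jm κ F * A * (jm κ F)ᵀ) *ᵥ v =
      v + jm κ F *ᵥ (A *ᵥ (v ∘ Sum.map κ κ) - v ∘ Sum.map κ κ) := by
  rw [add_mulVec, sub_mulVec, one_mulVec, ← mulVec_mulVec, ← mulVec_mulVec, ← mulVec_mulVec,
    jmT_mulVec, mulVec_sub]
  abel

variable (F) in
/-- The embedding of the symplectic group of a coordinate subspace. -/
def emb : symplecticGroup k F →* symplecticGroup l F :=
  MonoidHom.mk' (fun A => ⟨1 - jm κ F * (jm κ F)ᵀ + jm κ F * A.1 * (jm κ F)ᵀ,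
    mem_iff_bil.2 fun u v => by
      rw [emb_aux, emb_aux, map_add (bil l F _), bil_jm, Pi.add_comp, jm_comp hκ, add_sub_cancel,
        map_add, LinearMap.add_apply, bil_skew (_ *ᵥ _) v, bil_jm, map_sub, map_sub, bil_mulVec,
        bil_skew (v ∘ _) (u ∘ _), bil_skew (v ∘ _)]
      ring⟩) fun A B => sp_ext fun v => by
    rw [mul_mulVec]
    simp only [emb_aux]
    rw [Pi.add_comp, jm_comp hκ, add_sub_cancel, mul_mulVec, add_assoc, ← mulVec_add]
    congr 2
    abel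

theorem emb_mulVec (A : symplecticGroup k F) (v : l ⊕ l → F) : (emb F hκ A).1 *ᵥ v =
    v + jm κ F *ᵥ (A.1 *ᵥ (v ∘ Sum.map κ κ) - v ∘ Sum.map κ κ) := emb_aux _ _

theorem emb_jm (A : symplecticGroup k F) (u : k ⊕ k → F) :
    (emb F hκ A).1 *ᵥ (jm κ F *ᵥ u) = jm κ F *ᵥ (A.1 *ᵥ u) := by
  rw [emb_mulVec, jm_comp hκ, mulVec_sub, add_sub_cancel]

theorem emb_out (A : symplecticGroup k F) {x : l ⊕ l} (h : x ∉ Set.range (Sum.map κ κ)) :
    (emb F hκ A).1 *ᵥ bv F x = bv F x := by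
  have : bv F x ∘ Sum.map κ κ = 0 := funext fun y => by
    rw [Function.comp, bv_apply, if_neg fun e => h ⟨y, e⟩, Pi.zero_apply]
  rw [emb_mulVec, this]
  simp

theorem emb_injective : Function.Injective (emb F hκ) := fun A B e => sp_ext fun u => by
  rw [← jm_comp hκ (A.1 *ᵥ u), ← emb_jm hκ, e, emb_jm, jm_comp hκ]

theorem emb_mem_Fi {p : l ⊕ l → Prop} {A : symplecticGroup k F} :
    emb F hκ A ∈ Fi F p ↔ A ∈ Fi F fun x => p (Sum.map κ κ x) := by
  refine ⟨fun h x hx => ?_, fun h x hx => ?_⟩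
  · rw [← jm_comp hκ (A.1 *ᵥ _), ← emb_jm hκ, jm_bv, h _ hx, ← jm_bv, jm_comp hκ]
  · by_cases e : x ∈ Set.range (Sum.map κ κ)
    · obtain ⟨x, rfl⟩ := e
      rw [← jm_bv, emb_jm, h x hx]
    · exact emb_out hκ A e

theorem exists_emb {p : l ⊕ l → Prop} (hp : ∀ x, x ∉ Set.range (Sum.map κ κ) → p x)
    {g : symplecticGroup l F} (hg : g ∈ Fi F p) :
    ∃ A, A ∈ Fi F (fun x => p (Sum.map κ κ x)) ∧ emb F hκ A = g := by
  have h0 : ∀ v : l ⊕ l → F, (∀ x, x ∉ Set.range (Sum.map κ κ) → v x = 0) →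
      jm κ F *ᵥ (v ∘ Sum.map κ κ) = v := fun v hv => funext fun x => by
    by_cases e : x ∈ Set.range (Sum.map κ κ)
    · obtain ⟨x, rfl⟩ := e
      exact congrFun (jm_comp hκ (v ∘ Sum.map κ κ)) x
    · rw [jm_apply_out _ _ e, hv x e]
  have h1 : ∀ u, jm κ F *ᵥ (((jm κ F)ᵀ * g.1 * jm κ F) *ᵥ u) = g.1 *ᵥ (jm κ F *ᵥ u) := fun u => by
    rw [← mulVec_mulVec, ← mulVec_mulVec, jmT_mulVec]
    refine h0 _ fun x hx => ?_
    rw [Fi.apply hg (hp _ ?_), jm_apply_out _ _ hx]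
    rintro ⟨y, e⟩
    refine hx ⟨y.swap, ?_⟩
    rw [← swap_swap x, ← e]
    rcases y with y | y <;> rfl
  let A : symplecticGroup k F := ⟨(jm κ F)ᵀ * g.1 * jm κ F, mem_iff_bil.2 fun u v => by
    rw [← bil_jm_jm hκ, h1, h1, bil_mulVec, bil_jm_jm hκ]⟩
  have h2 : emb F hκ A = g := sp_ext' fun x => by
    by_cases e : x ∈ Set.range (Sum.map κ κ)
    · obtain ⟨x, rfl⟩ := e
      rw [← jm_bv, emb_jm, h1]
    · rw [emb_out hκ A e, hg x (hp x e)]
  exact ⟨A, (emb_mem_Fi hκ).1 (h2 ▸ hg), h2⟩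

theorem emb_sgp {u w : k ⊕ k → F} (h : bil k F u w = 0) (c : F) :
    emb F hκ (sgp u w c) = sgp (jm κ F *ᵥ u) (jm κ F *ᵥ w) c := sp_ext fun x => by
  rw [emb_mulVec, sgp_mulVec h, sgp_mulVec (by rw [bil_jm_jm hκ, h]), bil_jm, bil_jm, add_assoc,
    add_sub_cancel_left, mulVec_add, mulVec_smul, mulVec_smul, add_assoc]

end Emb

/-- `S_a` is transitive on the nonzero vectors of its plane. -/
theorem exists_Sa {a : l} {u v : l ⊕ l → F} (hu : ∀ x, x ≠ inl a → x ≠ inr a → u x = 0)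
    (hv : ∀ x, x ≠ inl a → x ≠ inr a → v x = 0) (hu0 : u ≠ 0) (hv0 : v ≠ 0) :
    ∃ g ∈ Sa F a, g.1 *ᵥ u = v := by
  have hκ : Function.Injective fun _ : Unit => a := fun _ _ _ => rfl
  have h0 : ∀ v : l ⊕ l → F, (∀ x, x ≠ inl a → x ≠ inr a → v x = 0) →
      jm (fun _ : Unit => a) F *ᵥ (v ∘ Sum.map (fun _ => a) fun _ => a) = v := fun v hv =>
    funext fun x => by
      by_cases e : x ∈ Set.range (Sum.map (fun _ : Unit => a) fun _ : Unit => a)
      · obtain ⟨x, rfl⟩ := e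
        exact congrFun (jm_comp hκ _) x
      · rw [jm_apply_out _ _ e, hv x (fun h => e ⟨inl (), h.symm⟩) fun h => e ⟨inr (), h.symm⟩]
  obtain ⟨A, hA⟩ := exists_sp_of_ne_zero (x := u ∘ Sum.map (fun _ : Unit => a) fun _ => a)
    (y := v ∘ Sum.map (fun _ : Unit => a) fun _ => a) (fun e => hu0 (by rw [← h0 u hu, e]; simp))
    fun e => hv0 (by rw [← h0 v hv, e]; simp)
  refine ⟨emb F hκ A, (emb_mem_Fi hκ).2 fun x hx => ?_, by rw [← h0 u hu, emb_jm, hA, h0 v hv]⟩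
  rcases x with x | x <;> simp at hx

theorem exists_w (a : l) : ∃ g ∈ Sa F a, g.1 *ᵥ bv F (inl a) = bv F (inr a) :=
  exists_Sa (fun x h _ => by rw [bv_apply, if_neg h]) (fun x _ h => by rw [bv_apply, if_neg h])
    (bv_ne_zero _) (bv_ne_zero _)

end Cfsg.Lib.SpA
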