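import Cfsg.Agent.Lib.SpA.C2

/-! The vector stabilizer in `Sp₆` and the subgroup of type `A₂`. -/

set_option autoImplicit false

namespace Cfsg.Lib.SpA

open Subgroup Matrix Cfsg.Lib.Symp Cfsg.Lib.Chev Cfsg.Lib.Root RootSys Sum
open scoped MatrixGroups commutatorElement

variable {F : Type*} [Field F] {E G : Type*} [Group E] [Group G]

theorem exists_heis (hF : ∃ a : F, a ≠ 0 ∧ a ≠ 1) {ψ φ : symplecticGroup (Fin 2) F →* E}
    (c0 : ∀ g ∈ Sa F 0, ψ g = φ g) (c1 : ∀ g ∈ Sa F 1, ∀ h, Commute (ψ g) (φ h))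
    (c2 : ∀ g ∈ Ma F 0 1, ∀ h ∈ Ma F 0 1 ⊔ Sa F 1, Commute (ψ g) (φ h)) :
    ∃ Y : (Fin 2 ⊕ Fin 2 → F) → F → E,
      (∀ v v' c c', Y v c * Y v' c' = Y (v + v') (c + c' + bil _ F v' v)) ∧
      (∀ g v c, φ g * Y v c * (φ g)⁻¹ = Y (g.1 *ᵥ v) c) ∧
      ∀ v, v (inl 1) = 0 → v (inr 1) = 0 → ∀ c, Y v c = ψ (sgp (bv F (inl 1)) v c) := by
  classical
  let e0 : Fin 2 ⊕ Fin 2 → F := bv F (inl 0)
  let e1 : Fin 2 ⊕ Fin 2 → F := bv F (inl 1)
  let A := ψ (sgp e1 e0 0)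
  have hA : sgp e1 e0 0 ∈ Ma F 0 1 := by simpa [Ma_comm] using sgp_mem_Ma (F := F) (1 : Fin 2) 0 1 0
  choose g hg using fun v (hv : v ≠ 0) =>
    exists_sp_of_ne_zero (bv_ne_zero (F := F) (inl (0 : Fin 2))) hv
  let y := fun v => if h : v = 0 then 1 else φ (g v h) * A * (φ (g v h))⁻¹
  have h0 : ∀ (k : symplecticGroup (Fin 2) F) {v}, v ≠ 0 → k.1 *ᵥ v ≠ 0 := fun k v hv e =>
    hv (by rw [← inv_mulVec_mulVec k v, e, mulVec_zero])
  have k1 : ∀ k : symplecticGroup (Fin 2) F, y (k.1 *ᵥ e0) = φ k * A * (φ k)⁻¹ := fun k => by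
    have h : k.1 *ᵥ e0 ≠ 0 := h0 k (bv_ne_zero (inl 0))
    have := (c2 _ hA (k⁻¹ * g _ h) (stab_le fun x hx => by
      rw [hx, mul_mulVec, hg, inv_mulVec_mulVec])).eq
    simp only [y, dif_neg h]
    rw [map_mul, map_inv] at this
    calc _ = φ k * ((φ k)⁻¹ * φ (g _ h) * A) * (φ (g _ h))⁻¹ := by group
      _ = _ := by simp only [A]; rw [← this]; group
  have k0 : y 0 = 1 := dif_pos rfl
  have k2 : ∀ k v, φ k * y v * (φ k)⁻¹ = y (k.1 *ᵥ v) := fun k v => by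
    by_cases h : v = 0
    · simp [h, k0]
    · rw [← hg v h, ← mul_mulVec, k1, k1, map_mul]
      group
  have b1 : ∀ v : Fin 2 ⊕ Fin 2 → F, v (inr 1) = 0 → bil _ F e1 v = 0 := fun v h => by
    rw [bil_skew, bil_inl, h, neg_zero]
  have k3 : ∀ v, v (inl 1) = 0 → v (inr 1) = 0 → y v = ψ (sgp e1 v 0) := fun v h1 h2 => by
    by_cases h : v = 0
    · rw [h, k0, sgp_zero, map_one]
    obtain ⟨k, hk, rfl⟩ := exists_Sa (a := (0 : Fin 2)) (u := e0) (v := v)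
      (fun x h _ => (bv_apply _ _).trans (if_neg h)) (fun x h h' => by
        rcases x with x | x <;> fin_cases x <;> simp_all) (bv_ne_zero _) h
    rw [k1, ← c0 k hk, ← map_inv, ← map_mul, ← map_mul, conj_sgp _ (b1 _ (by simp [e0, bv_apply])),
      hk _ (by simp)]
  let Z := fun c => ψ (sgp e1 0 c)
  have hZ : ∀ c k, Commute (Z c) (φ k) := fun c => c1 _ (sgp_mem_Fi (map_zero _) c (fun x hx => by
    rcases x with x | x <;> fin_cases x <;> simp_all [e1, bv_apply]) fun _ _ => rfl)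
  have Zadd : ∀ c d, Z c * Z d = Z (c + d) := fun c d => by
    simp only [Z]
    rw [← map_mul, sgp_mul (map_zero _) (map_zero _)]
    simp
  have hZy : ∀ c v, Commute (Z c) (y v) := fun c v => by
    by_cases h : v = 0
    · simp [h, k0]
    have : Commute (Z c) A := by
      have := b1 e0 (by simp [e0, bv_apply])
      refine Commute.map ?_ ψ
      rw [Commute, SemiconjBy, sgp_mul (map_zero _) this, sgp_mul this (map_zero _)]
      simp
    rw [← hg v h, k1]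
    exact ((hZ _ _).mul_right this).mul_right (hZ _ _).inv_right
  have k4 : ∀ v, v (inl 1) = 0 → v (inr 1) = 0 → ∀ c, y v * Z c = ψ (sgp e1 v c) :=
    fun v h1 h2 c => by
      rw [k3 v h1 h2, ← map_mul, sgp_mul (b1 _ h2) (map_zero _)]
      simp
  let R := fun v v' => y v * y v' = y (v + v') * Z (bil _ F v' v)
  have r1 : ∀ v v', v (inl 1) = 0 → v (inr 1) = 0 → v' (inl 1) = 0 → v' (inr 1) = 0 → R v v' :=
    fun v v' h1 h2 h3 h4 => by
      simp only [R]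
      rw [k4 _ (by simp [h1, h3]) (by simp [h2, h4]), k3 v h1 h2, k3 v' h3 h4, ← map_mul,
        sgp_mul (b1 _ h2) (b1 _ h4)]
      simp
  have r2 : ∀ (k : symplecticGroup (Fin 2) F) v v', R v v' → R (k.1 *ᵥ v) (k.1 *ᵥ v') :=
    fun k v v' h => by
      simp only [R] at h ⊢
      rw [← mulVec_add, ← k2, ← k2, ← k2, bil_mulVec, mul_assoc _ _ (Z _), ← (hZ _ k).inv_right.eq,
        ← mul_assoc _ (Z _), mul_assoc (φ k) _ (Z _), ← h]
      group
  have r3 : ∀ v v', bil _ F v v' ≠ 0 → R v v' := fun v v' h => by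
    have e : bil _ F e0 (-bil _ F v v' • bv F (inr 0)) = bil _ F v v' := by
      simp [bil_inr, e0, bv_apply]
    obtain ⟨k, rfl, h2⟩ := exists_sp_of_pair (linearIndependent_pair_of_ne_zero (bil_isAlt _ F)
      (e.trans_ne h)) (linearIndependent_pair_of_ne_zero (bil_isAlt _ F) h) e
    rw [← h2]
    exact r2 k _ _ (r1 _ _ (by simp [e0, bv_apply]) (by simp [e0, bv_apply]) (by simp [bv_apply])
      (by simp [bv_apply]))
  have r4 : ∀ v v' u, R v' u → R v v' → R (v + v') u → R v (v' + u) := fun v v' u h1 h2 h3 => by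
    simp only [R] at h1 h2 h3 ⊢
    refine mul_right_cancel (b := Z (bil _ F u v')) ?_
    rw [mul_assoc, ← h1, ← mul_assoc, h2, mul_assoc, (hZy _ _).eq, ← mul_assoc, h3, mul_assoc,
      mul_assoc, Zadd, Zadd, add_assoc]
    simp only [map_add, LinearMap.add_apply]
    congr 2
    ring
  have r5 : ∀ v v', R v v' := fun v v' => by
    by_cases h : bil _ F v v' ≠ 0
    · exact r3 v v' h
    by_cases hv : v = 0
    · simp [R, hv, k0, Z, sgp_zero]
    by_cases h1 : LinearIndependent F ![v, v']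
    · obtain ⟨a, ha, ha'⟩ := hF
      obtain ⟨k, rfl, rfl⟩ := exists_sp_of_pair (x := e0) (y := e1) (LinearIndependent.pair_iff.2
        fun s t e => ⟨by simpa [e0, e1, bv_apply] using congrFun e (inl 0),
          by simpa [e0, e1, bv_apply] using congrFun e (inl 1)⟩) h1
        (by rw [not_not.1 h]; simp [e0, e1, bil_inl, bv_apply])
      refine r2 k _ _ ?_
      rw [← sub_add_cancel e1 (bv F (inr 0) - a • bv F (inr 1))]
      refine r4 _ _ _ (r3 _ _ ?_) (r3 _ _ ?_) (r3 _ _ ?_) <;>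
        simp [e0, e1, bil_inl, bil_inr, bv_apply, ha]
      exact fun e => ha' (by linear_combination e)
    · obtain ⟨t, ht⟩ := not_forall.1 (mt (LinearIndependent.pair_iff' hv).2 h1)
      obtain rfl := not_not.1 ht
      rw [← hg v hv, ← mulVec_smul]
      exact r2 _ _ _ (r1 _ _ (by simp [bv_apply]) (by simp [bv_apply]) (by simp [bv_apply])
        (by simp [bv_apply]))
  refine ⟨fun v c => y v * Z c, fun v v' c c' => ?_, fun k v c => ?_, k4⟩
  · rw [mul_assoc, ← mul_assoc (Z c), (hZy _ _).eq, ← mul_assoc, ← mul_assoc, r5, mul_assoc,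
      mul_assoc, Zadd, Zadd, add_comm (bil _ F _ _)]
  · beta_reduce
    rw [← k2, mul_assoc _ _ (Z _), ← (hZ _ k).inv_right.eq]
    group

theorem good_heis (hF : ∃ a : F, a ≠ 0 ∧ a ≠ 1) {l : Type} [Fintype l] [DecidableEq l]
    {π : E →* symplecticGroup l F} {a b c : l} (hac : a ≠ c) (h1 : Function.Injective ![b, a])
    (h2 : Function.Injective ![b, c]) {ψ φ : symplecticGroup (Fin 2) F →* E}
    (hψ : π.comp ψ = emb F h1) (hφ : π.comp φ = emb F h2)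
    (c0 : ∀ g ∈ Sa F 0, ψ g = φ g) (c1 : ∀ g ∈ Sa F 1, ∀ h, Commute (ψ g) (φ h))
    (c2 : ∀ g ∈ Ma F 0 1, ∀ h ∈ Ma F 0 1 ⊔ Sa F 1, Commute (ψ g) (φ h)) :
    Good π (φ.range ⊔ (Ma F 0 1).map ψ) := by
  obtain ⟨Y, y1, y2, y3⟩ := exists_heis hF c0 c1 c2
  replace hψ : ∀ g, π (ψ g) = emb F h1 g := DFunLike.congr_fun hψ
  replace hφ : ∀ g, π (φ g) = emb F h2 g := DFunLike.congr_fun hφ
  have hab : a ≠ b := fun e => absurd (h1 (a₁ := 0) (a₂ := 1) e.symm) (by decide)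
  have o1 : ∀ x, x = inl a ∨ x = inr a → x ∉ Set.range (Sum.map ![b, c] ![b, c]) := by
    rintro _ (rfl | rfl) ⟨x, e⟩ <;> rcases x with x | x <;> fin_cases x <;> simp_all
  have o2 : ∀ x, x = inl a ∨ x = inr a → bv F x ∘ Sum.map ![b, c] ![b, c] = 0 := fun x h =>
    funext fun y => by rw [Function.comp, bv_apply, if_neg fun e => o1 x h ⟨y, e⟩, Pi.zero_apply]
  have o3 : ∀ x, x = inl a ∨ x = inr a → ∀ v, bil l F (bv F x) (jm ![b, c] F *ᵥ v) = 0 :=
    fun x h v => by rw [bil_jm, o2 x h, map_zero, LinearMap.zero_apply]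
  have y0 : Y 0 0 = 1 := by rw [y3 0 rfl rfl, sgp_zero, map_one]
  have y4 : ∀ v t, π (Y v t) = sgp (bv F (inl a)) (jm ![b, c] F *ᵥ v) t := fun v t => by
    by_cases hv : v = 0
    · rw [hv, y3 0 rfl rfl, hψ, emb_sgp h1 (map_zero _), jm_bv, mulVec_zero, mulVec_zero]
      rfl
    obtain ⟨k, rfl⟩ := exists_sp_of_ne_zero (bv_ne_zero (F := F) (inl 0)) hv
    rw [← y2, map_mul, map_mul, map_inv, hφ, y3 _ (by simp [bv_apply]) (by simp [bv_apply]), hψ,
      emb_sgp h1 (by simp [bil_inl, bv_apply]), jm_bv, jm_bv, ← emb_jm h2, jm_bv]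
    refine (conj_sgp _ (bil_bv_bv (by simp)) t).trans ?_
    rw [show Sum.map ![b, a] ![b, a] (inl 1) = inl a from rfl, emb_out h2 _ (o1 _ (.inl rfl))]
    rfl
  let K : Subgroup E :=
    { carrier := {x | ∃ v t g, x = Y v t * φ g}
      one_mem' := ⟨0, 0, 1, by simp [y0]⟩
      mul_mem' := by
        rintro _ _ ⟨v, t, g, rfl⟩ ⟨v', t', g', rfl⟩
        exact ⟨_, _, g * g', by rw [← y1 v (g.1 *ᵥ v') t t', ← y2, map_mul]; group⟩
      inv_mem' := by
        rintro _ ⟨v, t, g, rfl⟩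
        refine ⟨(g⁻¹).1 *ᵥ (-v), -t, g⁻¹, ?_⟩
        rw [← y2 g⁻¹ (-v), inv_mul_cancel_right, map_inv, _root_.mul_inv_rev, mul_right_inj,
          inv_eq_iff_mul_eq_one, y1]
        simpa [bil_self] using y0 }
  have hK : ∀ g, φ g ∈ K := fun g => ⟨0, 0, g, by rw [y0, one_mul]⟩
  have hY : ∀ v t, Y v t ∈ K := fun v t => ⟨v, t, 1, by rw [map_one, mul_one]⟩
  refine Good.mono (K := K) ?_ (sup_le (by rintro _ ⟨g, rfl⟩; exact hK g) (map_le_iff_le_comap.2
    ((Ma_comm _ _).le.trans (Ma_le (by decide) (fun t => ?_) (fun t => ?_) fun t => ?_))))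
  · rintro _ ⟨v, t, g, rfl⟩ e
    have e1 := congrArg (fun A : symplecticGroup l F => A.1 *ᵥ bv F (inr a)) e
    simp only [map_mul, mul_mulVec, y4, hφ] at e1
    rw [emb_out h2 _ (o1 _ (.inr rfl)), sgp_mulVec (o3 _ (.inl rfl) _), o3 _ (.inr rfl), bil_inl,
      bv_apply, if_pos rfl, one_smul, mul_one, zero_add, add_assoc] at e1
    replace e1 : jm ![b, c] F *ᵥ v + t • bv F (inl a) = 0 := by simpa using e1
    obtain rfl : v = 0 := by
      rw [← jm_comp h2 v, eq_neg_of_add_eq_zero_left e1, ← neg_smul, Pi.smul_comp,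
        o2 _ (.inl rfl), smul_zero]
    obtain rfl : t = 0 := by simpa [bv_ne_zero] using e1
    rw [y0, one_mul] at e ⊢
    rw [(injective_iff_map_eq_one _).1 (emb_injective h2) g (hφ g ▸ e), map_one]
  · exact mem_comap.2 (y3 0 rfl rfl t ▸ hY _ _)
  · refine mem_comap.2 (c0 _ (sgp_mem_Fi (map_zero _) t (fun x hx => ?_) fun _ _ => rfl) ▸ hK _)
    rcases x with x | x <;> fin_cases x <;> simp_all [bv_apply]
  · exact mem_comap.2 (y3 (t • bv F (inl 0)) (by simp [bv_apply]) (by simp [bv_apply]) 0 ▸ hY _ _)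

theorem a2_pair : ∀ r s : RtA 3, s ≠ (rootA 2).neg r → ∃ k : Fin 3, k ≠ 1 ∧ ∃ c : ℤˣ,
    0 ≤ c.1 * pA r.1.1 r.1.2 k ∧ 0 ≤ c.1 * pA s.1.1 s.1.2 k := by decide

/-- Root elements of type `A₂` from four subgroups on which `π` is injective. -/
theorem exists_a2 {π : E →* G} (φ : SL(3, F) →* G) (K : Fin 3 → ℤˣ → Subgroup E)
    (hK : ∀ k ≠ 1, ∀ c, Good π (K k c)) (z : RtA 3 → F → E)
    (hz : ∀ r : RtA 3, r.1.1 = 1 ∨ r.1.2 = 1 → ∀ t, π (z r t) = φ (.transvection r.2 t) ∧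
      ∀ k ≠ 1, ∀ c : ℤˣ, 0 ≤ c.1 * pA r.1.1 r.1.2 k → z r t ∈ K k c) :
    ∃ y : RtA 3 → F → E, (∀ r t u, y r (t + u) = y r t * y r u) ∧ (repA 2).tab.StrongComm y ∧
      ∀ r : RtA 3, r.1.1 = 1 ∨ r.1.2 = 1 → y r = z r := by
  have h1 : ∀ (r : RtA 3) t, ∃ e, (r.1.1 = 1 ∨ r.1.2 = 1 → e = z r t) ∧
      π e = φ (.transvection r.2 t) ∧ ∀ k ≠ 1, ∀ c : ℤˣ, 0 ≤ c.1 * pA r.1.1 r.1.2 k → e ∈ K k c := by
    intro r t
    by_cases h : r.1.1 = 1 ∨ r.1.2 = 1
    · exact ⟨_, fun _ => rfl, hz r h t⟩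
    obtain ⟨h1, h2⟩ := not_or.1 h
    have a1 := hz ⟨(r.1.1, 1), h1⟩ (.inr rfl) t
    have a2 := hz ⟨(1, r.1.2), Ne.symm h2⟩ (.inl rfl) 1
    refine ⟨⁅z ⟨(r.1.1, 1), h1⟩ t, z ⟨(1, r.1.2), Ne.symm h2⟩ 1⁆, fun e => (h e).elim, ?_,
      fun k hk c hc => ?_⟩
    · rw [map_commutatorElement, a1.1, a2.1, ← map_commutatorElement,
        Linear.commutator_transvection _ _ r.2, mul_one]
    · have b1 := a1.2 k hk c (by clear * - hc hk h1 h2; revert r k c; decide)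
      have b2 := a2.2 k hk c (by clear * - hc hk h1 h2; revert r k c; decide)
      exact mul_mem (mul_mem (mul_mem b1 b2) (inv_mem b1)) (inv_mem b2)
  choose y hy1 hy2 hy3 using h1
  refine ⟨y, fun r t u => ?_, fun r s h1 h2 => ?_, fun r h => funext fun t => hy1 r t h⟩
  · obtain ⟨k, hk, c, hc, -⟩ := a2_pair r r (RootSys.neg_ne_self _ r).symm
    refine (hK k hk c).eq (hy3 _ _ k hk c hc) (mul_mem (hy3 _ _ k hk c hc) (hy3 _ _ k hk c hc)) ?_
    rw [map_mul, hy2, hy2, hy2, ← map_mul]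
    exact congrArg φ ((realSL F 2).sys.x_add r t u)
  · obtain ⟨k, hk, c, hc, hc'⟩ := a2_pair r s h2
    refine (hK k hk c).comm ((realSL F 2).strongComm.map φ) h1 h2 fun m hm t =>
      ⟨hy3 _ _ k hk c ?_, hy2 _ _⟩
    rcases hm with rfl | rfl | hm
    · exact hc
    · exact hc'
    have := nonneg_of_between (eucA 2) hm (c := c.1) (a := k)
    simp only [eucA, single_sub_apply] at this
    exact this hc hc'

end Cfsg.Lib.SpA
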